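import Mathlib
import Cfsg.Prelude.Def_Local

/-!
# p-solvable groups

The working characterisation of `Cfsg.IsPSolvable` is `isPSolvable_iff_cores`: every nontrivial
quotient has a nontrivial `O_p` or a nontrivial `O_{p'}`.
-/

set_option autoImplicit false
set_option linter.style.haveILetI false

namespace Cfsg.Agent.Lib.PSolvable

open scoped Pointwise

universe u v

variable {p : ℕ} {G : Type u} [Group G]

/-! ### Elementary facts on the two cores -/

theorem isPGroup_pCore : IsPGroup p (Cfsg.pCore p G) :=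
  Sylow.sSup_of_normal _ (fun _ h => h.2) (fun _ h => h.1)

theorem le_pCore {N : Subgroup G} (hN : N.Normal) (h : IsPGroup p N) : N ≤ Cfsg.pCore p G :=
  le_sSup ⟨hN, h⟩

instance pCore_normal' : (Cfsg.pCore p G).Normal :=
  Subgroup.sSup_normal _ (fun _ h => h.1)

theorem le_pPrimeCore {N : Subgroup G} (hN : N.Normal) (h : (Nat.card N).Coprime p) :
    N ≤ Cfsg.pPrimeCore p G :=
  le_sSup ⟨hN, h⟩

instance pPrimeCore_normal' : (Cfsg.pPrimeCore p G).Normal :=
  Subgroup.sSup_normal _ (fun _ h => h.1)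

theorem card_sup_dvd_mul (N M : Subgroup G) [M.Normal] :
    Nat.card ↥(N ⊔ M) ∣ Nat.card N * Nat.card M := by
  have h := Subgroup.relIndex_mul_relIndex ⊥ M (N ⊔ M) bot_le le_sup_right
  rw [Subgroup.relIndex_bot_left, Subgroup.relIndex_bot_left, Subgroup.relIndex_sup_right] at h
  rw [← h, mul_comm]
  exact Nat.mul_dvd_mul_right (Subgroup.relIndex_dvd_card M N) _

theorem card_pPrimeCore_coprime [Finite G] :
    (Nat.card (Cfsg.pPrimeCore p G)).Coprime p := by
  classical
  set S : Set (Subgroup G) := {N : Subgroup G | N.Normal ∧ (Nat.card N).Coprime p}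
  have hbot : (⊥ : Subgroup G) ∈ S := ⟨inferInstance, by simp⟩
  obtain ⟨M, -, hM⟩ := Finite.exists_le_maximal (p := (· ∈ S)) hbot
  have key : Cfsg.pPrimeCore p G = M := by
    refine le_antisymm (sSup_le fun N hN => ?_) (le_sSup hM.1)
    haveI := hM.1.1
    haveI := hN.1
    have hmem : N ⊔ M ∈ S :=
      ⟨inferInstance, Nat.Coprime.of_dvd_left (card_sup_dvd_mul N M)
        (Nat.Coprime.mul_left hN.2 hM.1.2)⟩
    exact le_sup_left.trans (hM.2 hmem le_sup_right)
  rw [key]; exact hM.1.2

theorem map_pCore_le {H : Type v} [Group H] (f : G →* H) (hf : Function.Surjective f) :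
    (Cfsg.pCore p G).map f ≤ Cfsg.pCore p H :=
  le_pCore (Subgroup.Normal.map inferInstance f hf) (isPGroup_pCore.map f)

theorem map_pPrimeCore_le [Finite G] {H : Type v} [Group H] (f : G →* H)
    (hf : Function.Surjective f) : (Cfsg.pPrimeCore p G).map f ≤ Cfsg.pPrimeCore p H :=
  le_pPrimeCore (Subgroup.Normal.map inferInstance f hf)
    (Nat.Coprime.of_dvd_left (Subgroup.card_map_dvd _ f) card_pPrimeCore_coprime)

instance pCore_characteristic' : (Cfsg.pCore p G).Characteristic :=
  Subgroup.characteristic_iff_map_le.mpr fun φ => map_pCore_le φ.toMonoidHom φ.surjective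

instance pPrimeCore_characteristic' [Finite G] : (Cfsg.pPrimeCore p G).Characteristic :=
  Subgroup.characteristic_iff_map_le.mpr fun φ => map_pPrimeCore_le φ.toMonoidHom φ.surjective

theorem pCore_map_le_of_normal (A : Subgroup G) [A.Normal] :
    (Cfsg.pCore p A).map A.subtype ≤ Cfsg.pCore p G :=
  le_pCore inferInstance (isPGroup_pCore.map _)

theorem pPrimeCore_map_le_of_normal [Finite G] (A : Subgroup G) [A.Normal] :
    (Cfsg.pPrimeCore p A).map A.subtype ≤ Cfsg.pPrimeCore p G :=
  le_pPrimeCore inferInstance (by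
    rw [Subgroup.card_map_of_injective A.subtype_injective]; exact card_pPrimeCore_coprime)

/-- A normal subgroup with a nontrivial core lifts it to the whole group. -/
theorem cores_ne_bot_of_normal [Finite G] (A : Subgroup G) [A.Normal]
    (h : Cfsg.pCore p A ≠ ⊥ ∨ Cfsg.pPrimeCore p A ≠ ⊥) :
    Cfsg.pCore p G ≠ ⊥ ∨ Cfsg.pPrimeCore p G ≠ ⊥ := by
  refine h.imp (fun h hb => h ?_) (fun h hb => h ?_)
  · have := (pCore_map_le_of_normal (p := p) A).trans_eq hb
    rwa [le_bot_iff, Subgroup.map_eq_bot_iff_of_injective _ A.subtype_injective] at this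
  · have := (pPrimeCore_map_le_of_normal (p := p) A).trans_eq hb
    rwa [le_bot_iff, Subgroup.map_eq_bot_iff_of_injective _ A.subtype_injective] at this

theorem cores_ne_bot_of_comm [Fact p.Prime] [Finite G] [Nontrivial G]
    (hc : ∀ a b : G, a * b = b * a) :
    Cfsg.pCore p G ≠ ⊥ ∨ Cfsg.pPrimeCore p G ≠ ⊥ := by
  by_cases hd : p ∣ Nat.card G
  · left
    obtain ⟨g, hg⟩ := exists_prime_orderOf_dvd_card' p hd
    intro hb
    have hn : (Subgroup.zpowers g).Normal := ⟨fun a ha b => by
      rwa [hc b a, mul_inv_cancel_right]⟩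
    have hP : IsPGroup p (Subgroup.zpowers g) :=
      IsPGroup.of_card (n := 1) (by rw [Nat.card_zpowers, hg, pow_one])
    have := (le_pCore hn hP).trans_eq hb
    rw [le_bot_iff, Subgroup.zpowers_eq_bot] at this
    exact (Fact.out : p.Prime).ne_one (by rw [← hg, this, orderOf_one])
  · right
    intro hb
    have : (⊤ : Subgroup G) ≤ ⊥ := (le_pPrimeCore inferInstance (by
      rw [Subgroup.card_top]
      exact ((Nat.Prime.coprime_iff_not_dvd Fact.out).mpr hd).symm)).trans_eq hb
    exact bot_ne_top (le_bot_iff.mp this).symm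

/-! ### Admissible factor orders -/

/-- `n` is a power of `p` or prime to `p`. -/
def IsPNum (p n : ℕ) : Prop := (∃ m, n = p ^ m) ∨ n.Coprime p

theorem IsPNum.of_dvd [hp : Fact p.Prime] {n d : ℕ} (h : IsPNum p n) (hd : d ∣ n) :
    IsPNum p d := by
  rcases h with ⟨m, rfl⟩ | h
  · obtain ⟨i, -, hi⟩ := (Nat.dvd_prime_pow hp.out).mp hd
    exact Or.inl ⟨i, hi⟩
  · exact Or.inr (Nat.Coprime.of_dvd_left hd h)

theorem relIndex_dvd_relIndex_of_le_right {H L L' : Subgroup G} [H.Normal] (h : L ≤ L') :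
    H.relIndex L ∣ H.relIndex L' := by
  rw [← Subgroup.relIndex_subgroupOf h]
  exact Subgroup.relIndex_dvd_index_of_normal _ _

/-- Given a normal chain with admissible factors, every proper normal subgroup has a proper
normal overgroup with admissible factor. -/
theorem exists_step_of_chain [Fact p.Prime] {n : ℕ} (H : Fin (n + 1) → Subgroup G)
    (h0 : H 0 = ⊥) (hl : H (Fin.last n) = ⊤) (hn : ∀ i, (H i).Normal)
    (hf : ∀ i : Fin n, IsPNum p ((H i.castSucc).relIndex (H i.succ)))
    (N : Subgroup G) [N.Normal] (hN : N ≠ ⊤) :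
    ∃ M : Subgroup G, M.Normal ∧ N < M ∧ IsPNum p (N.relIndex M) := by
  classical
  have hex : ∃ i : Fin (n + 1), ¬ H i ≤ N :=
    ⟨Fin.last n, fun h => hN (top_le_iff.mp (hl ▸ h))⟩
  obtain ⟨i, hi, hmin⟩ : ∃ i : Fin (n + 1), ¬ H i ≤ N ∧ ∀ j < i, H j ≤ N := by
    obtain ⟨i, -, hi⟩ := Finite.exists_le_minimal (p := fun i => ¬ H i ≤ N) hex.choose_spec
    exact ⟨i, hi.1, fun j hj => not_not.mp fun h => absurd (hi.2 h hj.le) (not_le.mpr hj)⟩
  rcases Fin.eq_zero_or_eq_succ i with rfl | ⟨j, rfl⟩
  · exact absurd (h0 ▸ bot_le) hi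
  haveI := hn j.succ
  refine ⟨H j.succ ⊔ N, inferInstance, right_lt_sup.mpr hi, ?_⟩
  rw [Subgroup.relIndex_sup_right]
  exact (hf j).of_dvd
    (Subgroup.relIndex_dvd_of_le_left (H j.succ) (hmin _ (Fin.castSucc_lt_succ)))

/-- The step property of a p-solvable group. -/
theorem exists_step [Fact p.Prime] (h : Cfsg.IsPSolvable p G) (N : Subgroup G) [N.Normal]
    (hN : N ≠ ⊤) : ∃ M : Subgroup G, M.Normal ∧ N < M ∧ IsPNum p (N.relIndex M) := by
  obtain ⟨n, H, h0, hl, -, hn, hf⟩ := h
  exact exists_step_of_chain H h0 hl hn hf N hN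

theorem isPSolvable_of_step [Finite G]
    (h : ∀ N : Subgroup G, N.Normal → N ≠ ⊤ →
      ∃ M : Subgroup G, M.Normal ∧ N < M ∧ IsPNum p (N.relIndex M)) :
    Cfsg.IsPSolvable p G := by
  suffices ∀ N : Subgroup G, N.Normal → ∃ (n : ℕ) (H : ℕ → Subgroup G), H 0 = N ∧ H n = ⊤ ∧
      Monotone H ∧ (∀ i, (H i).Normal) ∧ ∀ i < n, IsPNum p ((H i).relIndex (H (i + 1))) by
    obtain ⟨n, H, h0, hl, hm, hn, hf⟩ := this ⊥ inferInstance
    refine ⟨n, fun i => H i, by simpa using h0, by simpa using hl, fun a b hab => hm hab,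
      fun i => hn _, fun i => ?_⟩
    simpa [IsPNum] using hf i i.isLt
  intro N
  induction N using WellFoundedGT.induction with
  | ind N ih =>
    intro hN
    by_cases ht : N = ⊤
    · exact ⟨0, fun _ => N, rfl, ht, monotone_const, fun _ => hN, fun i hi => absurd hi (by omega)⟩
    obtain ⟨M, hM, hlt, hpn⟩ := h N hN ht
    obtain ⟨n, H, h0, hl, hm, hn, hf⟩ := ih M hlt hM
    refine ⟨n + 1, fun i => Nat.casesOn i N H, rfl, hl, monotone_nat_of_le_succ ?_, ?_, ?_⟩
    · rintro (_ | i)
      · exact hlt.le.trans h0.ge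
      · exact hm i.le_succ
    · rintro (_ | i)
      · exact hN
      · exact hn i
    · rintro (_ | i) hi
      · simpa [h0] using hpn
      · exact hf i (by omega)

/-- p-solvable iff every nontrivial quotient has a nontrivial p-core or p'-core. -/
theorem isPSolvable_iff_cores [Fact p.Prime] [Finite G] :
    Cfsg.IsPSolvable p G ↔ ∀ N : Subgroup G, ∀ [N.Normal], N ≠ ⊤ →
      Cfsg.pCore p (G ⧸ N) ≠ ⊥ ∨ Cfsg.pPrimeCore p (G ⧸ N) ≠ ⊥ := by
  constructor
  · intro h N _ hN
    obtain ⟨M, hM, hlt, hpn⟩ := exists_step h N hN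
    have hcard : Nat.card (M.map (QuotientGroup.mk' N)) = N.relIndex M := by
      rw [← Subgroup.relIndex_ker, QuotientGroup.ker_mk']
    have hne : M.map (QuotientGroup.mk' N) ≠ ⊥ := by
      rw [Ne, Subgroup.map_eq_bot_iff, QuotientGroup.ker_mk']
      exact hlt.not_ge
    have hnorm : (M.map (QuotientGroup.mk' N)).Normal :=
      hM.map _ (QuotientGroup.mk'_surjective N)
    rcases hpn with ⟨m, hm⟩ | hc
    · refine Or.inl fun hb => hne (le_bot_iff.mp (hb ▸ le_pCore hnorm ?_))
      exact IsPGroup.of_card (hcard.trans hm)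
    · exact Or.inr fun hb => hne (le_bot_iff.mp (hb ▸ le_pPrimeCore hnorm (hcard ▸ hc)))
  · refine fun h => isPSolvable_of_step fun N hN ht => ?_
    have key : ∀ C : Subgroup (G ⧸ N), C.Normal → C ≠ ⊥ → IsPNum p (Nat.card C) →
        ∃ M : Subgroup G, M.Normal ∧ N < M ∧ IsPNum p (N.relIndex M) := by
      intro C hC hne hpn
      refine ⟨C.comap (QuotientGroup.mk' N), hC.comap _, ?_, ?_⟩
      · have hle : N ≤ C.comap (QuotientGroup.mk' N) := QuotientGroup.le_comap_mk' N C
        refine lt_of_le_of_ne hle fun heq => hne ?_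
        rw [← Subgroup.map_comap_eq_self_of_surjective (QuotientGroup.mk'_surjective N) C,
          ← heq, QuotientGroup.map_mk'_self]
      · have := Subgroup.relIndex_ker (K := C.comap (QuotientGroup.mk' N)) (QuotientGroup.mk' N)
        rw [QuotientGroup.ker_mk', Subgroup.map_comap_eq_self_of_surjective
          (QuotientGroup.mk'_surjective N) C] at this
        rwa [this]
    rcases h N ht with h' | h'
    · obtain ⟨m, hm⟩ := IsPGroup.iff_card.mp (isPGroup_pCore (p := p) (G := G ⧸ N))
      exact key _ inferInstance h' (Or.inl ⟨m, hm⟩)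
    · exact key _ inferInstance h' (Or.inr card_pPrimeCore_coprime)

/-- A nontrivial p-solvable group with trivial `O_{p'}` has nontrivial `O_p`. -/
theorem cores_ne_bot [Fact p.Prime] [Finite G] [Nontrivial G] (h : Cfsg.IsPSolvable p G) :
    Cfsg.pCore p G ≠ ⊥ ∨ Cfsg.pPrimeCore p G ≠ ⊥ := by
  obtain ⟨M, hM, hlt, hpn⟩ := exists_step h ⊥ bot_ne_top
  rw [Subgroup.relIndex_bot_left] at hpn
  rcases hpn with ⟨m, hm⟩ | hc
  · exact Or.inl fun hb => hlt.ne' (le_bot_iff.mp (hb ▸ le_pCore hM (IsPGroup.of_card hm)))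
  · exact Or.inr fun hb => hlt.ne' (le_bot_iff.mp (hb ▸ le_pPrimeCore hM hc))

theorem pCore_ne_bot [Fact p.Prime] [Finite G] [Nontrivial G] (h : Cfsg.IsPSolvable p G)
    (h' : Cfsg.pPrimeCore p G = ⊥) : Cfsg.pCore p G ≠ ⊥ :=
  (cores_ne_bot h).resolve_right (fun hne => hne h')

/-! ### Closure properties -/

theorem isPSolvable_of_injective [Fact p.Prime] {S : Type v} [Group S] [Finite S] (f : S →* G)
    (hf : Function.Injective f) (h : Cfsg.IsPSolvable p G) : Cfsg.IsPSolvable p S := by
  obtain ⟨n, H, h0, hl, -, hn, hfac⟩ := h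
  refine isPSolvable_of_step fun N hN ht => ?_
  refine exists_step_of_chain (fun i => (H i).comap f) ?_ ?_ (fun i => (hn i).comap f)
    (fun i => ?_) N ht
  · simp only [h0, MonoidHom.comap_bot]
    exact (MonoidHom.ker_eq_bot_iff f).mpr hf
  · simp only [hl, Subgroup.comap_top]
  · have := hn i.castSucc
    rw [Subgroup.relIndex_comap]
    exact (IsPNum.of_dvd (hfac i)
      (relIndex_dvd_relIndex_of_le_right (Subgroup.map_comap_le _ _)))

theorem isPSolvable_subgroup [Fact p.Prime] [Finite G] (h : Cfsg.IsPSolvable p G)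
    (S : Subgroup G) : Cfsg.IsPSolvable p S :=
  isPSolvable_of_injective S.subtype S.subtype_injective h

theorem isPSolvable_of_surjective [Fact p.Prime] [Finite G] {H : Type v} [Group H] (f : G →* H)
    (hf : Function.Surjective f) (h : Cfsg.IsPSolvable p G) : Cfsg.IsPSolvable p H := by
  haveI : Finite H := Finite.of_surjective f hf
  refine isPSolvable_of_step fun N hN ht => ?_
  haveI := hN.comap f
  obtain ⟨M, hM, hlt, hpn⟩ := exists_step h (N.comap f)
    (fun he => ht (by rw [← Subgroup.map_comap_eq_self_of_surjective hf N, he,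
      Subgroup.map_top_of_surjective f hf]))
  refine ⟨M.map f, hM.map f hf, ?_, by rwa [← Subgroup.relIndex_comap]⟩
  constructor
  · calc N = (N.comap f).map f := (Subgroup.map_comap_eq_self_of_surjective hf N).symm
      _ ≤ M.map f := Subgroup.map_mono hlt.le
  · exact fun hle => hlt.not_ge ((Subgroup.map_le_iff_le_comap).mp hle)

theorem isPSolvable_quotient [Fact p.Prime] [Finite G] (h : Cfsg.IsPSolvable p G)
    (N : Subgroup G) [N.Normal] : Cfsg.IsPSolvable p (G ⧸ N) :=
  isPSolvable_of_surjective (QuotientGroup.mk' N) (QuotientGroup.mk'_surjective N) h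

theorem isPSolvable_map [Fact p.Prime] [Finite G] {H : Type v} [Group H] (f : G →* H)
    {S : Subgroup G} (h : Cfsg.IsPSolvable p S) : Cfsg.IsPSolvable p (S.map f) :=
  isPSolvable_of_surjective (f.subgroupMap S) (f.subgroupMap_surjective S) h

theorem isPSolvable_congr [Fact p.Prime] [Finite G] {H : Type v} [Group H] (e : G ≃* H) :
    Cfsg.IsPSolvable p G ↔ Cfsg.IsPSolvable p H := by
  haveI : Finite H := Finite.of_equiv G e.toEquiv
  exact ⟨fun h => isPSolvable_of_surjective e.toMonoidHom e.surjective h,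
    fun h => isPSolvable_of_surjective e.symm.toMonoidHom e.symm.surjective h⟩

theorem isPSolvable_of_extension [Fact p.Prime] [Finite G] (A : Subgroup G) [A.Normal]
    (hA : Cfsg.IsPSolvable p A) (hQ : Cfsg.IsPSolvable p (G ⧸ A)) : Cfsg.IsPSolvable p G := by
  refine isPSolvable_iff_cores.mpr fun N _ hN => ?_
  haveI : Nontrivial (G ⧸ N) := by
    rw [QuotientGroup.nontrivial_iff]; exact hN
  by_cases hle : A ≤ N
  · refine cores_ne_bot (isPSolvable_of_surjective
      (QuotientGroup.map A N (MonoidHom.id G) (by simpa using hle)) ?_ hQ)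
    intro x
    obtain ⟨g, rfl⟩ := QuotientGroup.mk'_surjective N x
    exact ⟨QuotientGroup.mk g, rfl⟩
  · haveI : (A.map (QuotientGroup.mk' N)).Normal :=
      Subgroup.Normal.map inferInstance _ (QuotientGroup.mk'_surjective N)
    haveI : Nontrivial (A.map (QuotientGroup.mk' N)) := by
      rw [Subgroup.nontrivial_iff_ne_bot, Ne, Subgroup.map_eq_bot_iff, QuotientGroup.ker_mk']
      exact hle
    exact cores_ne_bot_of_normal (A.map (QuotientGroup.mk' N)) (cores_ne_bot (isPSolvable_map _ hA))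

theorem isPSolvable_of_isSolvable [Fact p.Prime] [Finite G] [Group.IsSolvable G] :
    Cfsg.IsPSolvable p G := by
  refine isPSolvable_iff_cores.mpr fun N _ hN => ?_
  haveI : Nontrivial (G ⧸ N) := by
    rw [QuotientGroup.nontrivial_iff]; exact hN
  haveI : Group.IsSolvable (G ⧸ N) :=
    Group.isSolvable_of_surjective (f := QuotientGroup.mk' N) (QuotientGroup.mk'_surjective N)
  classical
  obtain ⟨n, hn⟩ := (inferInstance : Group.IsSolvable (G ⧸ N)).solvable
  have hex : ∃ n, derivedSeries (G ⧸ N) n = ⊥ := ⟨n, hn⟩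
  obtain ⟨m, hm⟩ : ∃ m, Nat.find hex = m + 1 := by
    refine Nat.exists_eq_succ_of_ne_zero fun h0 => ?_
    have := Nat.find_spec hex
    rw [h0] at this
    exact bot_ne_top this.symm
  have h1 : derivedSeries (G ⧸ N) (m + 1) = ⊥ := hm ▸ Nat.find_spec hex
  have h2 : derivedSeries (G ⧸ N) m ≠ ⊥ := Nat.find_min hex (by omega)
  haveI := (Subgroup.nontrivial_iff_ne_bot _).mpr h2
  refine cores_ne_bot_of_normal (derivedSeries (G ⧸ N) m) (cores_ne_bot_of_comm fun a b => ?_)
  rw [derivedSeries_succ, Subgroup.commutator_eq_bot_iff_le_centralizer] at h1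
  exact Subtype.ext (Subgroup.mem_centralizer_iff.mp (h1 b.2) a a.2)

theorem isPSolvable_of_isPGroup (h : IsPGroup p G) [Fact p.Prime] [Finite G] :
    Cfsg.IsPSolvable p G :=
  haveI := h.isNilpotent
  isPSolvable_of_isSolvable

theorem isPSolvable_of_coprime [Finite G] (h : (Nat.card G).Coprime p) :
    Cfsg.IsPSolvable p G :=
  isPSolvable_of_step fun N _ hN => ⟨⊤, inferInstance, lt_top_iff_ne_top.mpr hN,
    Or.inr (by rw [Subgroup.relIndex_top_right]; exact h.of_dvd_left (N.index_dvd_card))⟩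

/-- In a p-solvable group a minimal normal subgroup is a p-group or a p'-group. -/
theorem minimal_normal_isPGroup_or_coprime [Fact p.Prime] [Finite G]
    (h : Cfsg.IsPSolvable p G) (M : Subgroup G) [M.Normal]
    (hmin : ∀ K : Subgroup G, K.Normal → K ≤ M → K = ⊥ ∨ K = M) :
    IsPGroup p M ∨ (Nat.card M).Coprime p := by
  by_cases hb : M = ⊥
  · subst hb; exact Or.inl IsPGroup.of_bot
  haveI := (Subgroup.nontrivial_iff_ne_bot M).mpr hb
  rcases cores_ne_bot (isPSolvable_subgroup h M) with h' | h'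
  · left
    rcases hmin ((Cfsg.pCore p M).map M.subtype) inferInstance (Subgroup.map_subtype_le _)
      with he | he
    · exact absurd ((Subgroup.map_eq_bot_iff_of_injective _ M.subtype_injective).mp he) h'
    · rw [← he]; exact isPGroup_pCore.map _
  · right
    rcases hmin ((Cfsg.pPrimeCore p M).map M.subtype) inferInstance (Subgroup.map_subtype_le _)
      with he | he
    · exact absurd ((Subgroup.map_eq_bot_iff_of_injective _ M.subtype_injective).mp he) h'
    · rw [← he, Subgroup.card_map_of_injective M.subtype_injective]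
      exact card_pPrimeCore_coprime

end Cfsg.Agent.Lib.PSolvable
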