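import Mathlib
import Cfsg.Prelude.Def_Local
import Cfsg.Agent.Lib.PSolvable.Basic

/-!
# Hall-Higman 1.2.3, p-constraint, the upper p-series
-/

set_option autoImplicit false
set_option linter.style.haveILetI false

namespace Cfsg.Agent.Lib.PSolvable

open scoped Pointwise

universe u v

variable {p : ℕ} {G : Type u} [Group G]

/-- Hall-Higman 1.2.3. -/
theorem centralizer_pCore_le [Fact p.Prime] [Finite G] (h : Cfsg.IsPSolvable p G)
    (h1 : Cfsg.pPrimeCore p G = ⊥) :
    Subgroup.centralizer ((Cfsg.pCore p G : Subgroup G) : Set G) ≤ Cfsg.pCore p G := by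
  by_contra hnot
  set C := Subgroup.centralizer ((Cfsg.pCore p G : Subgroup G) : Set G)
  set B := C ⊓ Cfsg.pCore p G with hBdef
  haveI : C.Normal := Subgroup.normal_centralizer
  haveI : B.Normal := Subgroup.normal_inf_normal C _
  have hBp : IsPGroup p B := isPGroup_pCore.to_le inf_le_right
  set π := QuotientGroup.mk' B
  haveI : (C.map π).Normal := Subgroup.Normal.map inferInstance _ (QuotientGroup.mk'_surjective B)
  haveI : Nontrivial (C.map π) := by
    rw [Subgroup.nontrivial_iff_ne_bot, Ne, Subgroup.map_eq_bot_iff, QuotientGroup.ker_mk']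
    exact fun hle => hnot (hle.trans inf_le_right)
  have hstep : ∀ Dq : Subgroup (G ⧸ B), Dq.Normal → Dq ≤ C.map π →
      (IsPGroup p Dq ∨ (Nat.card Dq).Coprime p) → Dq = ⊥ := by
    intro Dq hDq hDC hor
    haveI : (Dq.comap π).Normal := hDq.comap π
    have hDle : Dq.comap π ≤ C := by
      refine (Subgroup.comap_mono hDC).trans ?_
      rw [Subgroup.comap_map_eq, QuotientGroup.ker_mk', sup_le_iff]
      exact ⟨le_rfl, inf_le_left⟩
    suffices Dq.comap π ≤ B by
      rw [← Subgroup.map_comap_eq_self_of_surjective (QuotientGroup.mk'_surjective B) Dq,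
        Subgroup.map_eq_bot_iff, QuotientGroup.ker_mk']
      exact this
    rcases hor with hp | hc
    · refine le_inf hDle (le_pCore inferInstance ?_)
      exact hp.comap_of_ker_isPGroup π (by rwa [QuotientGroup.ker_mk'])
    · set D := Dq.comap π with hD
      have hBD : B ≤ D := QuotientGroup.le_comap_mk' B Dq
      set B' := B.subgroupOf D
      have hidx : B'.index = Nat.card Dq := by
        show B.relIndex D = _
        have hk := Subgroup.relIndex_ker (K := D) π
        rw [QuotientGroup.ker_mk', hD,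
          Subgroup.map_comap_eq_self_of_surjective (QuotientGroup.mk'_surjective B) Dq] at hk
        exact hk
      obtain ⟨m, hm⟩ := IsPGroup.iff_card.mp hBp
      have hB' : Nat.card B' = p ^ m :=
        (Nat.card_congr (Subgroup.subgroupOfEquivOfLe hBD).toEquiv).trans hm
      have hcop : (Nat.card B').Coprime B'.index := by
        rw [hB', hidx]; exact Nat.Coprime.pow_left _ hc.symm
      obtain ⟨K, hK⟩ := Subgroup.exists_right_complement'_of_coprime hcop
      have hcen : B' ≤ Subgroup.center D := by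
        intro b hb
        rw [Subgroup.mem_center_iff]
        intro d
        have hb2 : (b : G) ∈ Cfsg.pCore p G :=
          (Subgroup.mem_inf.mp (show (b : G) ∈ B from hb)).2
        exact Subtype.ext ((Subgroup.mem_centralizer_iff.mp (hDle d.2) (b : G) hb2).symm)
      haveI hKn : K.Normal := by
        rw [← Subgroup.normalizer_eq_top_iff, ← top_le_iff, ← hK.sup_eq_top, sup_le_iff]
        exact ⟨hcen.trans (Subgroup.center_le_normalizer _), Subgroup.le_normalizer⟩
      have hcardK : (Nat.card K).Coprime p := by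
        have hmul := hK.card_mul_card
        rw [← Subgroup.card_mul_index B'] at hmul
        rw [Nat.eq_of_mul_eq_mul_left Nat.card_pos hmul, hidx]
        exact hc
      have hKbot : K = ⊥ := by
        have hle : (Cfsg.pPrimeCore p D).map D.subtype ≤ (⊥ : Subgroup G) :=
          (pPrimeCore_map_le_of_normal D).trans_eq h1
        rw [le_bot_iff, Subgroup.map_eq_bot_iff_of_injective _ D.subtype_injective] at hle
        exact le_bot_iff.mp (hle ▸ le_pPrimeCore hKn hcardK)
      have htop : B' = ⊤ := by simpa [hKbot] using hK.sup_eq_top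
      exact Subgroup.subgroupOf_eq_top.mp htop
  rcases cores_ne_bot (isPSolvable_map π (isPSolvable_subgroup h C)) with h' | h'
  · refine h' ((Subgroup.map_eq_bot_iff_of_injective _ (C.map π).subtype_injective).mp
      (hstep _ inferInstance (Subgroup.map_subtype_le _) (Or.inl (isPGroup_pCore.map _))))
  · refine h' ((Subgroup.map_eq_bot_iff_of_injective _ (C.map π).subtype_injective).mp
      (hstep _ inferInstance (Subgroup.map_subtype_le _) (Or.inr ?_)))
    rw [Subgroup.card_map_of_injective (C.map π).subtype_injective]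
    exact card_pPrimeCore_coprime

/-! ### Cores of quotients by cores -/

theorem card_comap_mk' [Finite G] (N : Subgroup G) [N.Normal] (C : Subgroup (G ⧸ N)) :
    Nat.card ↥(C.comap (QuotientGroup.mk' N)) = Nat.card N * Nat.card C := by
  have h := Subgroup.relIndex_mul_relIndex ⊥ N (C.comap (QuotientGroup.mk' N)) bot_le
    (QuotientGroup.le_comap_mk' N C)
  have hk := Subgroup.relIndex_ker (K := C.comap (QuotientGroup.mk' N)) (QuotientGroup.mk' N)
  rw [QuotientGroup.ker_mk',
    Subgroup.map_comap_eq_self_of_surjective (QuotientGroup.mk'_surjective N) C] at hk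
  rw [Subgroup.relIndex_bot_left, Subgroup.relIndex_bot_left, hk] at h
  exact h.symm

theorem pPrimeCore_quotient_eq_bot [Finite G] (N : Subgroup G) [N.Normal]
    (hN : N = Cfsg.pPrimeCore p G) : Cfsg.pPrimeCore p (G ⧸ N) = ⊥ := by
  have hle : (Cfsg.pPrimeCore p (G ⧸ N)).comap (QuotientGroup.mk' N) ≤ N := by
    conv_rhs => rw [hN]
    refine le_pPrimeCore inferInstance ?_
    rw [card_comap_mk']
    exact Nat.Coprime.mul_left (hN ▸ card_pPrimeCore_coprime) card_pPrimeCore_coprime
  rw [← Subgroup.map_comap_eq_self_of_surjective (QuotientGroup.mk'_surjective N)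
    (Cfsg.pPrimeCore p (G ⧸ N)), Subgroup.map_eq_bot_iff, QuotientGroup.ker_mk']
  exact hle

theorem pCore_quotient_eq_bot (N : Subgroup G) [N.Normal]
    (hN : N = Cfsg.pCore p G) : Cfsg.pCore p (G ⧸ N) = ⊥ := by
  have hle : (Cfsg.pCore p (G ⧸ N)).comap (QuotientGroup.mk' N) ≤ N := by
    conv_rhs => rw [hN]
    refine le_pCore inferInstance (isPGroup_pCore.comap_of_ker_isPGroup _ ?_)
    rw [QuotientGroup.ker_mk', hN]
    exact isPGroup_pCore
  rw [← Subgroup.map_comap_eq_self_of_surjective (QuotientGroup.mk'_surjective N)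
    (Cfsg.pCore p (G ⧸ N)), Subgroup.map_eq_bot_iff, QuotientGroup.ker_mk']
  exact hle

/-! ### `O_{p',p}` and p-constraint -/

instance pPrimePCore_normal' : (Cfsg.pPrimePCore p G).Normal :=
  Subgroup.Normal.comap inferInstance _

theorem pPrimeCore_le_pPrimePCore : Cfsg.pPrimeCore p G ≤ Cfsg.pPrimePCore p G :=
  QuotientGroup.le_comap_mk' _ _

theorem pCore_le_pPrimePCore : Cfsg.pCore p G ≤ Cfsg.pPrimePCore p G :=
  Subgroup.map_le_iff_le_comap.mp (map_pCore_le _ (QuotientGroup.mk'_surjective _))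

theorem map_pPrimePCore :
    (Cfsg.pPrimePCore p G).map (QuotientGroup.mk' (Cfsg.pPrimeCore p G)) =
      Cfsg.pCore p (G ⧸ Cfsg.pPrimeCore p G) :=
  Subgroup.map_comap_eq_self_of_surjective (QuotientGroup.mk'_surjective _) _

/-- A Sylow subgroup covers every p-group image. -/
theorem map_sylow_eq_map_of_isPGroup [Fact p.Prime] [Finite G] {H : Type v} [Group H]
    (π : G →* H) (M : Subgroup G) (hpg : IsPGroup p ↥(M.map π)) (P : Sylow p M) :
    ((P : Subgroup M).map M.subtype).map π = M.map π := by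
  refine le_antisymm (Subgroup.map_mono (Subgroup.map_subtype_le _)) ?_
  have hf : Function.Surjective (π.subgroupMap M) := π.subgroupMap_surjective M
  have hP : (P : Subgroup ↥M).map (π.subgroupMap M) = ⊤ :=
    ((Sylow.mapSurjective hf P).is_maximal' (hpg.to_subgroup ⊤) le_top).symm
  intro y hy
  obtain ⟨x, hx, hxy⟩ := Subgroup.mem_map.mp (hP ▸ Subgroup.mem_top (⟨y, hy⟩ : ↥(M.map π)))
  exact Subgroup.mem_map.mpr ⟨x, Subgroup.mem_map_of_mem M.subtype hx, congrArg Subtype.val hxy⟩

/-- A Sylow subgroup of `O_{p',p}(G)` maps onto `O_p(G/O_{p'}(G))`. -/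
theorem map_sylow_pPrimePCore [Fact p.Prime] [Finite G] (P : Sylow p ↥(Cfsg.pPrimePCore p G)) :
    ((P : Subgroup ↥(Cfsg.pPrimePCore p G)).map (Cfsg.pPrimePCore p G).subtype).map
      (QuotientGroup.mk' (Cfsg.pPrimeCore p G)) = Cfsg.pCore p (G ⧸ Cfsg.pPrimeCore p G) := by
  rw [map_sylow_eq_map_of_isPGroup _ _ (by rw [map_pPrimePCore]; exact isPGroup_pCore),
    map_pPrimePCore]

/-- The centraliser of the image of a p-subgroup `P` of `G` in `G / N`, `N` a normal p'-subgroup,
is the image of the centraliser of `P`. -/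
theorem centralizer_map_le_map_centralizer [Fact p.Prime] [Finite G] (N P : Subgroup G) [N.Normal]
    (hN : (Nat.card N).Coprime p) (hP : IsPGroup p P) :
    Subgroup.centralizer ((P.map (QuotientGroup.mk' N) : Subgroup (G ⧸ N)) : Set (G ⧸ N)) ≤
      (Subgroup.centralizer (P : Set G)).map (QuotientGroup.mk' N) := by
  intro xq hxq
  obtain ⟨x, rfl⟩ := QuotientGroup.mk'_surjective N xq
  obtain ⟨m, hm⟩ := IsPGroup.iff_card.mp hP
  set H := N ⊔ P
  have hinf : P ⊓ N = ⊥ :=
    (Subgroup.disjoint_of_coprime_natCard (by rw [hm]; exact Nat.Coprime.pow_left _ hN.symm)).eq_bot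
  have hx : ∀ a ∈ P, x * a * x⁻¹ * a⁻¹ ∈ N := by
    intro a ha
    have h1 := Subgroup.mem_centralizer_iff.mp hxq _ (Subgroup.mem_map_of_mem (QuotientGroup.mk' N) ha)
    rw [← (QuotientGroup.eq_one_iff (N := N) _)]
    simp only [QuotientGroup.mk'_apply] at h1
    simp only [QuotientGroup.mk_mul, QuotientGroup.mk_inv]
    rw [← h1]
    group
  have hxH : ∀ a ∈ P, x * a * x⁻¹ ∈ H := by
    intro a ha
    rw [show x * a * x⁻¹ = (x * a * x⁻¹ * a⁻¹) * a by group]
    exact mul_mem (Subgroup.mem_sup_left (hx a ha)) (Subgroup.mem_sup_right ha)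
  set P' := P.map (MulAut.conj x).toMonoidHom
  have hP'le : P' ≤ H := by
    rintro _ ⟨a, ha, rfl⟩
    exact hxH a ha
  have hrel : ¬ p ∣ P.relIndex H := by
    have hd : P.relIndex H ∣ Nat.card N := by
      have h1 := Subgroup.relIndex_mul_relIndex ⊥ P H bot_le le_sup_right
      have h2 := Subgroup.relIndex_mul_relIndex ⊥ N H bot_le le_sup_left
      rw [Subgroup.relIndex_bot_left, Subgroup.relIndex_bot_left] at h1 h2
      rw [show N.relIndex H = N.relIndex P from by
        show N.relIndex (N ⊔ P) = _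
        rw [sup_comm, Subgroup.relIndex_sup_right]] at h2
      obtain ⟨c, hc⟩ := Subgroup.relIndex_dvd_card N P
      refine ⟨c, Nat.eq_of_mul_eq_mul_left (Nat.card_pos (α := P)) ?_⟩
      calc Nat.card P * Nat.card N = (N.relIndex P * c) * Nat.card N := by rw [← hc]
        _ = (Nat.card N * N.relIndex P) * c := by ring
        _ = (Nat.card P * P.relIndex H) * c := by rw [h2, ← h1]
        _ = Nat.card P * (P.relIndex H * c) := by ring
    exact fun h => (Nat.Prime.coprime_iff_not_dvd Fact.out).mp hN.symm (h.trans hd)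
  let S : Sylow p H :=
    (hP.comap_subtype (K := H)).toSylow hrel
  have hrel' : ¬ p ∣ P'.relIndex H := by
    have h1 := Subgroup.relIndex_mul_relIndex ⊥ P H bot_le le_sup_right
    have h2 := Subgroup.relIndex_mul_relIndex ⊥ P' H bot_le hP'le
    rw [Subgroup.relIndex_bot_left, Subgroup.relIndex_bot_left] at h1 h2
    rw [Subgroup.card_map_of_injective (MulEquiv.injective _), ← h1] at h2
    rwa [Nat.eq_of_mul_eq_mul_left Nat.card_pos h2]
  let S' : Sylow p H :=
    ((hP.map _).comap_subtype (K := H)).toSylow hrel'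
  obtain ⟨h, hh⟩ := MulAction.exists_smul_eq H S' S
  have hHg : ∀ g ∈ H, ∃ a ∈ P, ∃ n ∈ N, g = a * n := fun g hg => by
    have : g ∈ P ⊔ N := by rwa [sup_comm]
    obtain ⟨a, ha, n, hn, rfl⟩ := Subgroup.mem_sup_of_normal_right.mp this
    exact ⟨a, ha, n, hn, rfl⟩
  obtain ⟨a, ha, n, hn, hgn⟩ := hHg h h.2
  have hconj : ∀ b ∈ P, n * x * b * (n * x)⁻¹ ∈ P := by
    intro b hb
    have hmem : (⟨x * b * x⁻¹, hxH b hb⟩ : H) ∈ S' := by
      show x * b * x⁻¹ ∈ P'
      exact ⟨b, hb, rfl⟩
    have : h * ⟨x * b * x⁻¹, hxH b hb⟩ * h⁻¹ ∈ S := by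
      rw [← hh]
      exact Subgroup.smul_mem_pointwise_smul _ (MulAut.conj h) (S' : Subgroup H) hmem
    have h3 : (h : G) * (x * b * x⁻¹) * (h : G)⁻¹ ∈ P := this
    rw [hgn] at h3
    have := mul_mem (mul_mem (inv_mem ha) h3) ha
    convert this using 1
    group
  refine ⟨n * x, ?_, ?_⟩
  · rw [SetLike.mem_coe, Subgroup.mem_centralizer_iff]
    intro b hb
    have h1 : n * x * b * (n * x)⁻¹ * b⁻¹ ∈ P ⊓ N := by
      refine Subgroup.mem_inf.mpr ⟨mul_mem (hconj b hb) (inv_mem (SetLike.mem_coe.mp hb)), ?_⟩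
      rw [show n * x * b * (n * x)⁻¹ * b⁻¹ =
        n * (x * b * x⁻¹ * b⁻¹) * (b * n⁻¹ * b⁻¹) by group]
      exact mul_mem (mul_mem hn (hx b hb))
        (Subgroup.Normal.conj_mem inferInstance _ (inv_mem hn) b)
    rw [hinf, Subgroup.mem_bot, mul_inv_eq_one, mul_inv_eq_iff_eq_mul] at h1
    exact h1.symm
  · simp [(QuotientGroup.eq_one_iff n).mpr hn]

/-- p-constraint, read in `G / O_{p'}(G)`. -/
theorem isPConstrained_iff [Fact p.Prime] [Finite G] :
    Cfsg.IsPConstrained p G ↔
      Subgroup.centralizer ((Cfsg.pCore p (G ⧸ Cfsg.pPrimeCore p G) : Subgroup _) : Set _) ≤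
        Cfsg.pCore p (G ⧸ Cfsg.pPrimeCore p G) := by
  constructor
  · intro h
    obtain ⟨P⟩ := (inferInstance : Nonempty (Sylow p ↥(Cfsg.pPrimePCore p G)))
    conv_lhs => rw [← map_sylow_pPrimePCore P]
    refine (centralizer_map_le_map_centralizer _ _ card_pPrimeCore_coprime
      (P.isPGroup'.map _)).trans ?_
    rw [← map_pPrimePCore]
    exact Subgroup.map_mono (h P)
  · intro h P
    refine le_trans ?_ (Subgroup.comap_mono h)
    rw [← Subgroup.map_le_iff_le_comap]
    conv_rhs => rw [← map_sylow_pPrimePCore P]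
    rw [Subgroup.coe_map]
    exact Subgroup.map_centralizer_le_centralizer_image _ _

/-- Every p-solvable group is p-constrained. -/
theorem isPConstrained_of_isPSolvable [Fact p.Prime] [Finite G] (h : Cfsg.IsPSolvable p G) :
    Cfsg.IsPConstrained p G :=
  isPConstrained_iff.mpr
    (centralizer_pCore_le (isPSolvable_quotient h _) (pPrimeCore_quotient_eq_bot _ rfl))

/-! ### The upper p-series -/

theorem upperPSeries_zero : (Cfsg.upperPSeries p G 0).1 = ⊥ := rfl

theorem upperPSeries_odd (k : ℕ) :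
    (Cfsg.upperPSeries p G (2 * k + 1)).1 =
      (Cfsg.pPrimeCore p (G ⧸ (Cfsg.upperPSeries p G (2 * k)).1)).comap
        (QuotientGroup.mk' (Cfsg.upperPSeries p G (2 * k)).1) := by
  simp only [Cfsg.upperPSeries, show Even (2 * k) from ⟨k, by omega⟩, if_true]

theorem upperPSeries_even (k : ℕ) :
    (Cfsg.upperPSeries p G (2 * k + 2)).1 =
      (Cfsg.pCore p (G ⧸ (Cfsg.upperPSeries p G (2 * k + 1)).1)).comap
        (QuotientGroup.mk' (Cfsg.upperPSeries p G (2 * k + 1)).1) := by
  show (Cfsg.upperPSeries p G (2 * k + 1 + 1)).1 = _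
  conv_lhs => rw [Cfsg.upperPSeries]
  rw [if_neg (by simp)]

theorem upperPSeries_le_succ (n : ℕ) :
    (Cfsg.upperPSeries p G n).1 ≤ (Cfsg.upperPSeries p G (n + 1)).1 := by
  rcases Nat.even_or_odd' n with ⟨k, rfl | rfl⟩
  · rw [upperPSeries_odd]; exact QuotientGroup.le_comap_mk' _ _
  · rw [show 2 * k + 1 + 1 = 2 * k + 2 from rfl, upperPSeries_even]
    exact QuotientGroup.le_comap_mk' _ _

theorem upperPSeries_mono : Monotone fun n => (Cfsg.upperPSeries p G n).1 :=
  monotone_nat_of_le_succ upperPSeries_le_succ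

theorem pPrimeCore_quotient_upperPSeries [Finite G] (k : ℕ) :
    Cfsg.pPrimeCore p (G ⧸ (Cfsg.upperPSeries p G (2 * k + 1)).1) = ⊥ := by
  set U := (Cfsg.upperPSeries p G (2 * k)).1
  set V := (Cfsg.upperPSeries p G (2 * k + 1)).1
  have hVmap : V.map (QuotientGroup.mk' U) = Cfsg.pPrimeCore p (G ⧸ U) := by
    rw [show V = _ from upperPSeries_odd k,
      Subgroup.map_comap_eq_self_of_surjective (QuotientGroup.mk'_surjective U)]
  have h0 := pPrimeCore_quotient_eq_bot (p := p) (V.map (QuotientGroup.mk' U)) hVmap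
  let e := QuotientGroup.quotientQuotientEquivQuotient U V (upperPSeries_le_succ _)
  have := map_pPrimeCore_le (p := p) e.symm.toMonoidHom e.symm.surjective
  rw [h0, le_bot_iff] at this
  exact (Subgroup.map_eq_bot_iff_of_injective _ e.symm.injective).mp this

theorem pCore_quotient_upperPSeries (k : ℕ) :
    Cfsg.pCore p (G ⧸ (Cfsg.upperPSeries p G (2 * k + 2)).1) = ⊥ := by
  set U := (Cfsg.upperPSeries p G (2 * k + 1)).1
  set V := (Cfsg.upperPSeries p G (2 * k + 2)).1
  have hVmap : V.map (QuotientGroup.mk' U) = Cfsg.pCore p (G ⧸ U) := by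
    rw [show V = _ from upperPSeries_even k,
      Subgroup.map_comap_eq_self_of_surjective (QuotientGroup.mk'_surjective U)]
  have h0 := pCore_quotient_eq_bot (p := p) (V.map (QuotientGroup.mk' U)) hVmap
  let e := QuotientGroup.quotientQuotientEquivQuotient U V (upperPSeries_le_succ _)
  have := map_pCore_le (p := p) e.symm.toMonoidHom e.symm.surjective
  rw [h0, le_bot_iff] at this
  exact (Subgroup.map_eq_bot_iff_of_injective _ e.symm.injective).mp this

/-- In a p-solvable group every p-step before the top is proper. -/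
theorem upperPSeries_lt [Fact p.Prime] [Finite G] (h : Cfsg.IsPSolvable p G) (k : ℕ)
    (hne : (Cfsg.upperPSeries p G (2 * k + 1)).1 ≠ ⊤) :
    (Cfsg.upperPSeries p G (2 * k + 1)).1 < (Cfsg.upperPSeries p G (2 * k + 2)).1 := by
  set U := (Cfsg.upperPSeries p G (2 * k + 1)).1
  haveI : Nontrivial (G ⧸ U) := by rw [QuotientGroup.nontrivial_iff]; exact hne
  refine lt_of_le_of_ne (upperPSeries_le_succ _) fun heq =>
    pCore_ne_bot (isPSolvable_quotient h U) (pPrimeCore_quotient_upperPSeries k) ?_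
  rw [← Subgroup.map_comap_eq_self_of_surjective (QuotientGroup.mk'_surjective U)
    (Cfsg.pCore p (G ⧸ U)), ← upperPSeries_even k, ← heq, QuotientGroup.map_mk'_self]

theorem exists_pLengthLE [Fact p.Prime] [Finite G] (h : Cfsg.IsPSolvable p G) :
    ∃ k, Cfsg.PLengthLE p k G := by
  by_contra hnot
  simp only [Cfsg.PLengthLE, not_exists] at hnot
  have : StrictMono fun k => (Cfsg.upperPSeries p G (2 * k + 1)).1 :=
    strictMono_nat_of_lt_succ fun k =>
      (upperPSeries_lt h k (hnot k)).trans_le (upperPSeries_mono (by omega))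
  exact (not_injective_infinite_finite _) this.injective

theorem isPSolvable_of_pLengthLE [Fact p.Prime] [Finite G] {k : ℕ} (h : Cfsg.PLengthLE p k G) :
    Cfsg.IsPSolvable p G := by
  refine ⟨2 * k + 1, fun i => (Cfsg.upperPSeries p G i).1, rfl, h,
    fun a b hab => upperPSeries_mono hab, fun i => (Cfsg.upperPSeries p G i).2, fun i => ?_⟩
  have hr : ∀ (U : Subgroup G) [U.Normal] (C : Subgroup (G ⧸ U)),
      U.relIndex (C.comap (QuotientGroup.mk' U)) = Nat.card C := fun U _ C => by
    have := Subgroup.relIndex_ker (K := C.comap (QuotientGroup.mk' U)) (QuotientGroup.mk' U)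
    rwa [QuotientGroup.ker_mk',
      Subgroup.map_comap_eq_self_of_surjective (QuotientGroup.mk'_surjective U) C] at this
  simp only [Fin.val_castSucc, Fin.val_succ]
  rcases Nat.even_or_odd' (i : ℕ) with ⟨j, hj | hj⟩ <;> rw [hj]
  · rw [upperPSeries_odd, hr]
    exact Or.inr card_pPrimeCore_coprime
  · rw [show 2 * j + 1 + 1 = 2 * j + 2 from rfl, upperPSeries_even, hr]
    exact Or.inl (IsPGroup.iff_card.mp isPGroup_pCore)

theorem isPSolvable_iff_exists_pLengthLE [Fact p.Prime] [Finite G] :
    Cfsg.IsPSolvable p G ↔ ∃ k, Cfsg.PLengthLE p k G :=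
  ⟨exists_pLengthLE, fun ⟨_, hk⟩ => isPSolvable_of_pLengthLE hk⟩

end Cfsg.Agent.Lib.PSolvable
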