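import Mathlib
import Cfsg.Agent.Lib.PSolvable.HallHigman

/-!
# Working with `p`-length

Step lemmas for the upper `p`-series, behaviour under subgroups, quotients and subdirect products.
-/

set_option autoImplicit false
set_option linter.style.haveILetI false
set_option linter.unusedSectionVars false

namespace Cfsg.Agent.Lib.PSolvable

universe u v

variable {p : ℕ} {G : Type u} [Group G]

theorem pLengthLE_def {k : ℕ} :
    Cfsg.PLengthLE p k G ↔ (Cfsg.upperPSeries p G (2 * k + 1)).1 = ⊤ := Iff.rfl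

instance upperPSeries_normal (n : ℕ) : (Cfsg.upperPSeries p G n).1.Normal :=
  (Cfsg.upperPSeries p G n).2

theorem pLengthLE_mono {k l : ℕ} (hkl : k ≤ l) (h : Cfsg.PLengthLE p k G) :
    Cfsg.PLengthLE p l G :=
  top_le_iff.mp ((le_of_eq h.symm).trans (upperPSeries_mono (by omega)))

variable [Finite G]

theorem card_map_dvd_relIndex {N N' U : Subgroup G} [U.Normal] (hle : N ≤ U) :
    Nat.card (N'.map (QuotientGroup.mk' U)) ∣ N.relIndex N' := by
  rw [← Subgroup.relIndex_ker, QuotientGroup.ker_mk']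
  exact Subgroup.relIndex_dvd_of_le_left N' hle

/-- A normal `p'`-step above a member of even index stays below the next member. -/
theorem le_upperPSeries_odd {N N' : Subgroup G} [N'.Normal] {k : ℕ}
    (hN : N ≤ (Cfsg.upperPSeries p G (2 * k)).1) (h : (N.relIndex N').Coprime p) :
    N' ≤ (Cfsg.upperPSeries p G (2 * k + 1)).1 := by
  rw [upperPSeries_odd, ← Subgroup.map_le_iff_le_comap]
  exact le_pPrimeCore (Subgroup.Normal.map inferInstance _ (QuotientGroup.mk'_surjective _))
    (h.coprime_dvd_left (card_map_dvd_relIndex hN))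

/-- A normal `p`-step above a member of odd index stays below the next member. -/
theorem le_upperPSeries_even [Fact p.Prime] {N N' : Subgroup G} [N'.Normal] {k : ℕ}
    (hN : N ≤ (Cfsg.upperPSeries p G (2 * k + 1)).1) (h : ∃ m, N.relIndex N' = p ^ m) :
    N' ≤ (Cfsg.upperPSeries p G (2 * k + 2)).1 := by
  rw [upperPSeries_even, ← Subgroup.map_le_iff_le_comap]
  obtain ⟨m, hm⟩ := h
  have h1 := card_map_dvd_relIndex (N' := N') hN
  rw [hm] at h1
  obtain ⟨i, -, hi⟩ := (Nat.dvd_prime_pow Fact.out).mp h1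
  exact le_pCore (Subgroup.Normal.map inferInstance _ (QuotientGroup.mk'_surjective _))
    (IsPGroup.of_card hi)

theorem relIndex_upperPSeries_odd (k : ℕ) :
    ((Cfsg.upperPSeries p G (2 * k)).1.relIndex (Cfsg.upperPSeries p G (2 * k + 1)).1).Coprime p := by
  rw [upperPSeries_odd]
  have h := Subgroup.relIndex_ker
    (K := (Cfsg.pPrimeCore p (G ⧸ (Cfsg.upperPSeries p G (2 * k)).1)).comap
      (QuotientGroup.mk' (Cfsg.upperPSeries p G (2 * k)).1))
    (QuotientGroup.mk' (Cfsg.upperPSeries p G (2 * k)).1)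
  rw [QuotientGroup.ker_mk', Subgroup.map_comap_eq_self_of_surjective
    (QuotientGroup.mk'_surjective _)] at h
  rw [h]
  exact card_pPrimeCore_coprime

theorem relIndex_upperPSeries_even [Fact p.Prime] (k : ℕ) :
    ∃ m, (Cfsg.upperPSeries p G (2 * k + 1)).1.relIndex (Cfsg.upperPSeries p G (2 * k + 2)).1 =
      p ^ m := by
  rw [upperPSeries_even]
  have h := Subgroup.relIndex_ker
    (K := (Cfsg.pCore p (G ⧸ (Cfsg.upperPSeries p G (2 * k + 1)).1)).comap
      (QuotientGroup.mk' (Cfsg.upperPSeries p G (2 * k + 1)).1))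
    (QuotientGroup.mk' (Cfsg.upperPSeries p G (2 * k + 1)).1)
  rw [QuotientGroup.ker_mk', Subgroup.map_comap_eq_self_of_surjective
    (QuotientGroup.mk'_surjective _)] at h
  rw [h]
  exact IsPGroup.iff_card.mp isPGroup_pCore

theorem relIndex_map_dvd {H : Type v} [Group H] (f : G →* H) (A B : Subgroup G) :
    (A.map f).relIndex (B.map f) ∣ A.relIndex B := by
  rw [← Subgroup.relIndex_comap]
  exact Subgroup.relIndex_dvd_of_le_left B (Subgroup.le_comap_map f A)

variable [hp : Fact p.Prime]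

/-- A normal series whose steps alternate between `p'` and `p` lies below the upper series. -/
theorem le_upperPSeries_of_chain (T : ℕ → Subgroup G) (hn : ∀ n, (T n).Normal) {a b : ℕ}
    (hpar : ∃ j, b = a + 2 * j) (h0 : T a ≤ (Cfsg.upperPSeries p G b).1)
    (hodd : ∀ k, ((T (2 * k)).relIndex (T (2 * k + 1))).Coprime p)
    (heven : ∀ k, ∃ m, (T (2 * k + 1)).relIndex (T (2 * k + 2)) = p ^ m) :
    ∀ m, T (a + m) ≤ (Cfsg.upperPSeries p G (b + m)).1 := by
  obtain ⟨j, rfl⟩ := hpar
  intro m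
  induction m with
  | zero => exact h0
  | succ m ih =>
    haveI := hn (a + (m + 1))
    rcases Nat.even_or_odd' (a + m) with ⟨k, hk | hk⟩
    · rw [hk, show a + 2 * j + m = 2 * (k + j) from by omega] at ih
      have h1 := hodd k
      rw [show 2 * k + 1 = a + (m + 1) from by omega] at h1
      rw [show a + 2 * j + (m + 1) = 2 * (k + j) + 1 from by omega]
      exact le_upperPSeries_odd ih h1
    · rw [hk, show a + 2 * j + m = 2 * (k + j) + 1 from by omega] at ih
      have h1 := heven k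
      rw [show 2 * k + 2 = a + (m + 1) from by omega] at h1
      rw [show a + 2 * j + (m + 1) = 2 * (k + j) + 2 from by omega]
      exact le_upperPSeries_even ih h1

/-- Pulling back along a homomorphism. -/
theorem comap_chain {H : Type v} [Group H] [Finite H] (f : G →* H) :
    (∀ k, (((Cfsg.upperPSeries p H (2 * k)).1.comap f).relIndex
        ((Cfsg.upperPSeries p H (2 * k + 1)).1.comap f)).Coprime p) ∧
    (∀ k, ∃ m, ((Cfsg.upperPSeries p H (2 * k + 1)).1.comap f).relIndex
        ((Cfsg.upperPSeries p H (2 * k + 2)).1.comap f) = p ^ m) := by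
  constructor
  · intro k
    rw [Subgroup.relIndex_comap]
    exact (relIndex_upperPSeries_odd k).coprime_dvd_left
      (relIndex_dvd_relIndex_of_le_right (Subgroup.map_comap_le _ _))
  · intro k
    rw [Subgroup.relIndex_comap]
    obtain ⟨m, hm⟩ := relIndex_upperPSeries_even (p := p) (G := H) k
    have h1 := relIndex_dvd_relIndex_of_le_right
      (H := (Cfsg.upperPSeries p H (2 * k + 1)).1)
      (Subgroup.map_comap_le f (Cfsg.upperPSeries p H (2 * k + 2)).1)
    rw [hm] at h1
    obtain ⟨i, -, hi⟩ := (Nat.dvd_prime_pow hp.out).mp h1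
    exact ⟨i, hi⟩

theorem pLengthLE_of_injective {H : Type v} [Group H] [Finite H] (f : G →* H)
    (hf : Function.Injective f) {k : ℕ} (h : Cfsg.PLengthLE p k H) : Cfsg.PLengthLE p k G := by
  have := le_upperPSeries_of_chain (fun n => (Cfsg.upperPSeries p H n).1.comap f)
    (fun n => inferInstance) (a := 0) (b := 0) ⟨0, rfl⟩
    (by
      show (Cfsg.upperPSeries p H 0).1.comap f ≤ _
      rw [upperPSeries_zero, MonoidHom.comap_bot, (MonoidHom.ker_eq_bot_iff f).mpr hf]
      exact bot_le)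
    (comap_chain f).1 (comap_chain f).2 (2 * k + 1)
  rw [zero_add, pLengthLE_def.mp h, Subgroup.comap_top] at this
  exact top_le_iff.mp this

theorem pLengthLE_of_surjective {H : Type v} [Group H] [Finite H] (f : G →* H)
    (hf : Function.Surjective f) {k : ℕ} (h : Cfsg.PLengthLE p k G) : Cfsg.PLengthLE p k H := by
  have := le_upperPSeries_of_chain (fun n => (Cfsg.upperPSeries p G n).1.map f)
    (fun n => Subgroup.Normal.map inferInstance f hf) (a := 0) (b := 0) ⟨0, rfl⟩
    (by
      show (Cfsg.upperPSeries p G 0).1.map f ≤ _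
      rw [upperPSeries_zero, Subgroup.map_bot]
      exact bot_le)
    (fun i => (relIndex_upperPSeries_odd i).coprime_dvd_left (relIndex_map_dvd f _ _))
    (fun i => by
      obtain ⟨m, hm⟩ := relIndex_upperPSeries_even (p := p) (G := G) i
      have h1 := relIndex_map_dvd f
        (Cfsg.upperPSeries p G (2 * i + 1)).1 (Cfsg.upperPSeries p G (2 * i + 2)).1
      rw [hm] at h1
      obtain ⟨j, -, hj⟩ := (Nat.dvd_prime_pow hp.out).mp h1
      exact ⟨j, hj⟩) (2 * k + 1)
  rw [zero_add, pLengthLE_def.mp h, Subgroup.map_top_of_surjective f hf] at this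
  exact top_le_iff.mp this

theorem pLengthLE_congr {H : Type v} [Group H] [Finite H] (e : G ≃* H) {k : ℕ}
    (h : Cfsg.PLengthLE p k G) : Cfsg.PLengthLE p k H :=
  pLengthLE_of_surjective e.toMonoidHom e.surjective h

theorem pLengthLE_zero_iff : Cfsg.PLengthLE p 0 G ↔ ¬ p ∣ Nat.card G := by
  constructor
  · intro h hd
    have h1 := relIndex_upperPSeries_odd (p := p) (G := G) 0
    rw [show (Cfsg.upperPSeries p G (2 * 0 + 1)).1 = ⊤ from h,
      show (Cfsg.upperPSeries p G (2 * 0)).1 = ⊥ from rfl, Subgroup.relIndex_bot_left,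
      Subgroup.card_top] at h1
    exact hp.out.one_lt.ne' (Nat.eq_one_of_dvd_coprimes h1 hd dvd_rfl)
  · intro h
    refine top_le_iff.mp (le_upperPSeries_odd (N := ⊥) bot_le ?_)
    rw [Subgroup.relIndex_bot_left, Subgroup.card_top]
    exact ((hp.out.coprime_iff_not_dvd).mpr h).symm

theorem pLengthLE_of_isPGroup (h : IsPGroup p G) : Cfsg.PLengthLE p 1 G := by
  refine top_le_iff.mp (le_trans ?_ (upperPSeries_mono (show 2 ≤ 2 * 1 + 1 by omega)))
  obtain ⟨m, hm⟩ := IsPGroup.iff_card.mp h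
  exact le_upperPSeries_even (k := 0) (N := ⊥) bot_le
    ⟨m, by rw [Subgroup.relIndex_bot_left, Subgroup.card_top, hm]⟩

/-- Quotient by a normal subgroup of order prime to `p`. -/
theorem pLengthLE_of_quotient_pPrime {N : Subgroup G} [N.Normal] (hN : (Nat.card N).Coprime p)
    {k : ℕ} (h : Cfsg.PLengthLE p k (G ⧸ N)) : Cfsg.PLengthLE p k G := by
  have hc := comap_chain (p := p) (QuotientGroup.mk' N)
  have h1 : (Cfsg.upperPSeries p (G ⧸ N) 1).1.comap (QuotientGroup.mk' N) ≤
      (Cfsg.upperPSeries p G 1).1 := by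
    refine le_upperPSeries_odd (k := 0) (N := ⊥) bot_le ?_
    rw [Subgroup.relIndex_bot_left, card_comap_mk']
    refine Nat.Coprime.mul_left hN ?_
    have := relIndex_upperPSeries_odd (p := p) (G := G ⧸ N) 0
    rwa [show (Cfsg.upperPSeries p (G ⧸ N) (2 * 0)).1 = ⊥ from rfl,
      Subgroup.relIndex_bot_left] at this
  have := le_upperPSeries_of_chain (fun n => (Cfsg.upperPSeries p (G ⧸ N) n).1.comap
    (QuotientGroup.mk' N)) (fun n => inferInstance) (a := 1) (b := 1) ⟨0, rfl⟩ h1 hc.1 hc.2 (2 * k)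
  rw [add_comm 1 (2 * k), pLengthLE_def.mp h, Subgroup.comap_top] at this
  exact top_le_iff.mp this

/-- Quotient by a subgroup of the second member of the series. -/
theorem pLengthLE_succ_of_quotient {N : Subgroup G} [N.Normal]
    (hN : N ≤ (Cfsg.upperPSeries p G 2).1) {k : ℕ} (h : Cfsg.PLengthLE p k (G ⧸ N)) :
    Cfsg.PLengthLE p (k + 1) G := by
  have hc := comap_chain (p := p) (QuotientGroup.mk' N)
  have := le_upperPSeries_of_chain (fun n => (Cfsg.upperPSeries p (G ⧸ N) n).1.comap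
    (QuotientGroup.mk' N)) (fun n => inferInstance) (a := 0) (b := 2) ⟨1, rfl⟩
    (by
      show (Cfsg.upperPSeries p (G ⧸ N) 0).1.comap _ ≤ _
      rw [upperPSeries_zero, MonoidHom.comap_bot, QuotientGroup.ker_mk']
      exact hN) hc.1 hc.2 (2 * k + 1)
  rw [zero_add, pLengthLE_def.mp h, Subgroup.comap_top] at this
  rw [pLengthLE_def, show 2 * (k + 1) + 1 = 2 + (2 * k + 1) by omega]
  exact top_le_iff.mp this

theorem pCore_le_upperPSeries_two : Cfsg.pCore p G ≤ (Cfsg.upperPSeries p G 2).1 := by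
  obtain ⟨m, hm⟩ := IsPGroup.iff_card.mp (isPGroup_pCore (p := p) (G := G))
  exact le_upperPSeries_even (k := 0) (N := ⊥) bot_le
    ⟨m, by rw [Subgroup.relIndex_bot_left, hm]⟩

theorem pLengthLE_succ_of_quotient_pCore {k : ℕ}
    (h : Cfsg.PLengthLE p k (G ⧸ Cfsg.pCore p G)) : Cfsg.PLengthLE p (k + 1) G :=
  pLengthLE_succ_of_quotient pCore_le_upperPSeries_two h

theorem upperPSeries_two : (Cfsg.upperPSeries p G 2).1 = Cfsg.pPrimePCore p G := by
  have h1 : (Cfsg.upperPSeries p G 1).1 = Cfsg.pPrimeCore p G := by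
    refine le_antisymm (le_pPrimeCore inferInstance ?_) ?_
    · have := relIndex_upperPSeries_odd (p := p) (G := G) 0
      rwa [show (Cfsg.upperPSeries p G (2 * 0)).1 = ⊥ from rfl,
        Subgroup.relIndex_bot_left] at this
    · refine le_upperPSeries_odd (k := 0) (N := ⊥) bot_le ?_
      rw [Subgroup.relIndex_bot_left]
      exact card_pPrimeCore_coprime
  refine le_antisymm ?_ ?_
  · rw [Cfsg.pPrimePCore, ← Subgroup.map_le_iff_le_comap]
    refine le_pCore (Subgroup.Normal.map inferInstance _ (QuotientGroup.mk'_surjective _)) ?_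
    obtain ⟨m, hm⟩ := relIndex_upperPSeries_even (p := p) (G := G) 0
    have h2 := card_map_dvd_relIndex
      (N' := (Cfsg.upperPSeries p G 2).1) (U := Cfsg.pPrimeCore p G) h1.le
    have h3 := h2.trans (dvd_of_eq hm)
    obtain ⟨i, -, hi⟩ := (Nat.dvd_prime_pow hp.out).mp h3
    exact IsPGroup.of_card hi
  · refine le_upperPSeries_even (k := 0) (N := Cfsg.pPrimeCore p G) h1.ge ?_
    have h2 := Subgroup.relIndex_ker (K := Cfsg.pPrimePCore p G)
      (QuotientGroup.mk' (Cfsg.pPrimeCore p G))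
    rw [QuotientGroup.ker_mk', map_pPrimePCore] at h2
    rw [h2]
    exact IsPGroup.iff_card.mp isPGroup_pCore

/-- Subdirect products. -/
theorem pLengthLE_of_inf_eq_bot {N M : Subgroup G} [N.Normal] [M.Normal] (h : N ⊓ M = ⊥) {k : ℕ}
    (hN : Cfsg.PLengthLE p k (G ⧸ N)) (hM : Cfsg.PLengthLE p k (G ⧸ M)) :
    Cfsg.PLengthLE p k G := by
  set A := fun n => (Cfsg.upperPSeries p (G ⧸ N) n).1.comap (QuotientGroup.mk' N)
  set B := fun n => (Cfsg.upperPSeries p (G ⧸ M) n).1.comap (QuotientGroup.mk' M)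
  have hA := comap_chain (p := p) (QuotientGroup.mk' N)
  have hB := comap_chain (p := p) (QuotientGroup.mk' M)
  have key : ∀ n, (A n ⊓ B n).relIndex (A (n + 1) ⊓ B (n + 1)) ∣
      (A n).relIndex (A (n + 1)) * (B n).relIndex (B (n + 1)) := by
    intro n
    haveI : (A n).Normal := inferInstanceAs ((Cfsg.upperPSeries p (G ⧸ N) n).1.comap _).Normal
    haveI : (B n).Normal := inferInstanceAs ((Cfsg.upperPSeries p (G ⧸ M) n).1.comap _).Normal
    set T := A (n + 1) ⊓ B (n + 1)
    have h1 := Subgroup.relIndex_mul_relIndex (A n ⊓ B n ⊓ T) (A n ⊓ T) T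
      (inf_le_inf_right _ inf_le_left) inf_le_right
    rw [Subgroup.inf_relIndex_right, Subgroup.inf_relIndex_right] at h1
    have e2 : (A n ⊓ B n ⊓ T).relIndex (A n ⊓ T) = (B n).relIndex (A n ⊓ T) := by
      rw [show A n ⊓ B n ⊓ T = B n ⊓ (A n ⊓ T) by ac_rfl, Subgroup.inf_relIndex_right]
    rw [← h1, e2, mul_comm]
    exact mul_dvd_mul (relIndex_dvd_relIndex_of_le_right inf_le_left)
      (relIndex_dvd_relIndex_of_le_right (inf_le_right.trans inf_le_right))
  have := le_upperPSeries_of_chain (fun n => A n ⊓ B n)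
    (fun n => inferInstanceAs ((Cfsg.upperPSeries p (G ⧸ N) n).1.comap _ ⊓
      (Cfsg.upperPSeries p (G ⧸ M) n).1.comap _).Normal) (a := 0) (b := 0) ⟨0, rfl⟩
    (by
      show (Cfsg.upperPSeries p (G ⧸ N) 0).1.comap _ ⊓ (Cfsg.upperPSeries p (G ⧸ M) 0).1.comap _ ≤ _
      rw [upperPSeries_zero, upperPSeries_zero, MonoidHom.comap_bot, MonoidHom.comap_bot,
        QuotientGroup.ker_mk', QuotientGroup.ker_mk', h]
      exact bot_le)
    (fun i => ((hA.1 i).mul_left (hB.1 i)).coprime_dvd_left (key (2 * i)))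
    (fun i => by
      obtain ⟨a, ha⟩ := hA.2 i
      obtain ⟨b, hb⟩ := hB.2 i
      have h1 : _ ∣ p ^ (a + b) := (key (2 * i + 1)).trans (by
        show (A (2 * i + 1)).relIndex (A (2 * i + 2)) * (B (2 * i + 1)).relIndex (B (2 * i + 2)) ∣ _
        rw [ha, hb, pow_add])
      obtain ⟨j, -, hj⟩ := (Nat.dvd_prime_pow hp.out).mp h1
      exact ⟨j, hj⟩) (2 * k + 1)
  rw [zero_add] at this
  refine top_le_iff.mp (le_trans ?_ this)
  show ⊤ ≤ (Cfsg.upperPSeries p (G ⧸ N) (2 * k + 1)).1.comap _ ⊓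
    (Cfsg.upperPSeries p (G ⧸ M) (2 * k + 1)).1.comap _
  rw [pLengthLE_def.mp hN, pLengthLE_def.mp hM, Subgroup.comap_top, Subgroup.comap_top, inf_top_eq]

end Cfsg.Agent.Lib.PSolvable
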