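/-
The faithful module `O_p(G)/Φ(O_p(G))` for `G/O_p(G)` when `O_{p'}(G) = 1`.
-/
import Mathlib
import Cfsg.Agent.Lib.PSolvable.HallHigman
import Cfsg.Agent.Lib.Coprime.Commutator
import Cfsg.Agent.Lib.PGroups.Frattini
import Cfsg.Agent.Lib.HallHigmanB.Jordan

set_option autoImplicit false
set_option linter.unusedSectionVars false
set_option linter.style.haveILetI false

namespace Cfsg.Agent.Lib.PSolvable

open Module

universe u

variable {G : Type u} [Group G] [Finite G] {p : ℕ} [hp : Fact p.Prime]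

/-- The conjugate of an element of the `p`-core, inside the `p`-core. -/
def coreConj (g : G) (u : ↥(Cfsg.pCore p G)) : ↥(Cfsg.pCore p G) :=
  ⟨g * u * g⁻¹, (inferInstance : (Cfsg.pCore p G).Normal).conj_mem _ u.2 g⟩

/-- The Frattini quotient of the `p`-core as a faithful module for the quotient by the core. -/
theorem exists_module (hsol : Cfsg.IsPSolvable p G) (h1 : Cfsg.pPrimeCore p G = ⊥) :
    ∃ (V : Type u) (_ : AddCommGroup V) (_ : Module (ZMod p) V)
      (_ : FiniteDimensional (ZMod p) V) (π : ↥(Cfsg.pCore p G) → V)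
      (f : G ⧸ Cfsg.pCore p G →* Module.End (ZMod p) V),
      Function.Surjective π ∧ (∀ u v, π (u * v) = π u + π v) ∧
      (∀ u, π u = 0 ↔ u ∈ frattini ↥(Cfsg.pCore p G)) ∧ Function.Injective f ∧
      ∀ (g : G) u, f (g : G ⧸ Cfsg.pCore p G) (π u) = π (coreConj g u) := by
  classical
  have hP : IsPGroup p ↥(Cfsg.pCore p G) := isPGroup_pCore
  have hV := PGroups.frattiniQuotient_elemAb hP
  set P := Cfsg.pCore p G with hPdef
  letI : CommGroup (↥P ⧸ frattini ↥P) :=
    { (inferInstance : Group (↥P ⧸ frattini ↥P)) with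
      mul_comm := fun a b => congrArg Subtype.val
        (hV.1.is_comm.comm (⟨a, Subgroup.mem_top _⟩ : (⊤ : Subgroup (↥P ⧸ frattini ↥P)))
          ⟨b, Subgroup.mem_top _⟩) }
  obtain ⟨hmod⟩ : Nonempty (Module (ZMod p) (Additive (↥P ⧸ frattini ↥P))) :=
    ⟨AddCommGroup.zmodModule fun v => by
      apply Additive.toMul.injective
      rw [toMul_nsmul, toMul_zero]
      exact hV.2 _ (Subgroup.mem_top _)⟩
  let π : ↥P → Additive (↥P ⧸ frattini ↥P) := fun u =>
    Additive.ofMul (QuotientGroup.mk u)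
  have hπs : Function.Surjective π := fun v => by
    obtain ⟨u, hu⟩ := QuotientGroup.mk_surjective (Additive.toMul v)
    exact ⟨u, by simp only [π, hu]; rfl⟩
  have hπm : ∀ u v, π (u * v) = π u + π v := fun u v => rfl
  have hπ0 : ∀ u, π u = 0 ↔ u ∈ frattini ↥P := fun u => QuotientGroup.eq_one_iff u
  let q : G → (↥P ⧸ frattini ↥P) →* (↥P ⧸ frattini ↥P) := fun g =>
    QuotientGroup.map _ _ (MulAut.conjNormal g).toMonoidHom
      (Subgroup.Characteristic.fixed (H := frattini ↥P) inferInstance (MulAut.conjNormal g)).ge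
  let L : G → Module.End (ZMod p) (Additive (↥P ⧸ frattini ↥P)) := fun g =>
    (MonoidHom.toAdditive (q g)).toZModLinearMap p
  have hL : ∀ g u, L g (π u) = π (coreConj g u) := fun g u => by
    show Additive.ofMul (QuotientGroup.mk (MulAut.conjNormal g u)) = _
    rfl
  have hext : ∀ A B : Module.End (ZMod p) (Additive (↥P ⧸ frattini ↥P)),
      (∀ u, A (π u) = B (π u)) → A = B := fun A B h => LinearMap.ext fun v => by
    obtain ⟨u, rfl⟩ := hπs v
    exact h u
  let Lh : G →* Module.End (ZMod p) (Additive (↥P ⧸ frattini ↥P)) :=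
    { toFun := L
      map_one' := hext _ _ fun u => by
        rw [hL, Module.End.one_apply]
        congr 1
        exact Subtype.ext (by simp [coreConj])
      map_mul' := fun a b => hext _ _ fun u => by
        rw [hL, Module.End.mul_apply, hL, hL]
        congr 1
        exact Subtype.ext (by simp [coreConj, mul_assoc]) }
  have hker : P ≤ Lh.ker := fun g hg => hext _ _ fun u => by
    show L g (π u) = _
    rw [hL, Module.End.one_apply]
    show Additive.ofMul _ = Additive.ofMul _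
    have : coreConj g u = ⟨g, hg⟩ * u * (⟨g, hg⟩ : ↥P)⁻¹ := Subtype.ext rfl
    rw [this, QuotientGroup.mk_mul, QuotientGroup.mk_mul, mul_comm _ (QuotientGroup.mk u),
      mul_assoc, QuotientGroup.mk_inv, mul_inv_cancel, mul_one]
  refine ⟨Additive (↥P ⧸ frattini ↥P), inferInstance, inferInstance, Module.Finite.of_finite, π,
    QuotientGroup.lift P Lh hker, hπs, hπm, hπ0, ?_, fun g u => hL g u⟩
  -- the kernel is a normal `p`-group
  have hKp : IsPGroup p Lh.ker := by
    refine IsPGroup.of_card (Nat.eq_prime_pow_of_unique_prime_dvd Nat.card_pos.ne'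
      fun {r} hr hd => ?_)
    by_contra hne
    haveI := Fact.mk hr
    obtain ⟨⟨a, ha⟩, hao⟩ := exists_prime_orderOf_dvd_card' r hd
    have hao' : orderOf a = r := by
      rw [← hao]
      exact (Subgroup.orderOf_mk a ha).symm
    obtain ⟨j, hj⟩ := IsPGroup.iff_card.mp hP
    obtain ⟨i, hi⟩ := IsPGroup.iff_card.mp (hP.to_subgroup (frattini ↥P))
    have hcen : Subgroup.zpowers a ≤ Subgroup.centralizer (P : Set G) := by
      refine Coprime.le_centralizer_of_frattini
        (by rw [Subgroup.normalizer_eq_top_iff.mpr inferInstance]; exact le_top) ?_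
        fun b hb k hk => ?_
      · rw [hi, Nat.card_zpowers, hao']
        exact ((Nat.coprime_primes hr hp.out).mpr hne).pow_right _
      · have hb' : b ∈ Lh.ker := Subgroup.zpowers_le.mpr ha hb
        have h2 : π (coreConj b ⟨k, hk⟩) = π ⟨k, hk⟩ := by
          rw [← hL]
          exact LinearMap.congr_fun (show L b = 1 from hb') _
        refine ⟨coreConj b ⟨k, hk⟩ * (⟨k, hk⟩ : ↥P)⁻¹, (QuotientGroup.eq_one_iff _).mp ?_, rfl⟩
        rw [QuotientGroup.mk_mul, QuotientGroup.mk_inv, mul_inv_eq_one]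
        exact h2
    have haP : a ∈ P := centralizer_pCore_le hsol h1 (hcen (Subgroup.mem_zpowers a))
    have h3 := P.orderOf_dvd_natCard haP
    rw [hao', hj] at h3
    exact hne ((Nat.prime_dvd_prime_iff_eq hr hp.out).mp (hr.dvd_of_dvd_pow h3))
  refine (MonoidHom.ker_eq_bot_iff _).mp (le_bot_iff.mp fun x hx => ?_)
  obtain ⟨g, rfl⟩ := QuotientGroup.mk_surjective x
  exact (QuotientGroup.eq_one_iff g).mpr (le_pCore inferInstance hKp hx)

variable {V : Type*} [AddCommGroup V] [Module (ZMod p) V] {π : ↥(Cfsg.pCore p G) → V}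
  {f : G ⧸ Cfsg.pCore p G →* Module.End (ZMod p) V}

theorem pi_one (hπ : ∀ u v, π (u * v) = π u + π v) : π 1 = 0 := by
  have := hπ 1 1
  rwa [one_mul, left_eq_add] at this

theorem pi_pow (hπ : ∀ u v, π (u * v) = π u + π v) (u : ↥(Cfsg.pCore p G)) (m : ℕ) :
    π (u ^ m) = m • π u := by
  induction m with
  | zero => rw [pow_zero, zero_smul, pi_one hπ]
  | succ m ih => rw [pow_succ, hπ, ih, succ_nsmul]

theorem mk_pow (g : G) (m : ℕ) :
    ((g ^ m : G) : G ⧸ Cfsg.pCore p G) = (g : G ⧸ Cfsg.pCore p G) ^ m := rfl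

/-- Powers of an element of the coset `P g`. -/
theorem exists_mul_pow (hπ : ∀ u v, π (u * v) = π u + π v)
    (hc : ∀ (g : G) u, f (g : G ⧸ Cfsg.pCore p G) (π u) = π (coreConj g u))
    (u : ↥(Cfsg.pCore p G)) (g : G) (m : ℕ) :
    ∃ w : ↥(Cfsg.pCore p G), ((u : G) * g) ^ m = w * g ^ m ∧
      π w = (∑ i ∈ Finset.range m, f (g : G ⧸ Cfsg.pCore p G) ^ i) (π u) := by
  induction m with
  | zero => exact ⟨1, by simp, by simp [pi_one hπ]⟩
  | succ m ih =>
    obtain ⟨w, hw, hw'⟩ := ih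
    refine ⟨w * coreConj (g ^ m) u, ?_, ?_⟩
    · rw [pow_succ, hw, Subgroup.coe_mul, coreConj]
      simp only [pow_succ, mul_assoc, inv_mul_cancel_left]
    · rw [hπ, hw', ← hc, mk_pow, map_pow, Finset.sum_range_succ, LinearMap.add_apply]

theorem exists_mul_pow_prime_pow (hπ : ∀ u v, π (u * v) = π u + π v)
    (hc : ∀ (g : G) u, f (g : G ⧸ Cfsg.pCore p G) (π u) = π (coreConj g u))
    (u : ↥(Cfsg.pCore p G)) (g : G) (a : ℕ) :
    ∃ w : ↥(Cfsg.pCore p G), ((u : G) * g) ^ p ^ a = w * g ^ p ^ a ∧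
      π w = ((f (g : G ⧸ Cfsg.pCore p G) - 1) ^ (p ^ a - 1)) (π u) := by
  rw [← HallHigmanB.geom_sum_end (p := p)]
  exact exists_mul_pow hπ hc u g (p ^ a)

/-- If all `p`-elements have order dividing `p ^ a`, then the block of a `p`-element is deficient. -/
theorem sub_one_pow_eq_zero (hπ : ∀ u v, π (u * v) = π u + π v) (hs : Function.Surjective π)
    (hc : ∀ (g : G) u, f (g : G ⧸ Cfsg.pCore p G) (π u) = π (coreConj g u)) {a : ℕ}
    (hexp : ∀ x : G, (∃ k : ℕ, x ^ p ^ k = 1) → x ^ p ^ a = 1) (g : G)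
    (hg : ∃ k : ℕ, g ^ p ^ k = 1) :
    (f (g : G ⧸ Cfsg.pCore p G) - 1) ^ (p ^ a - 1) = 0 := by
  refine LinearMap.ext fun v => ?_
  obtain ⟨u, rfl⟩ := hs v
  have hga := hexp g hg
  obtain ⟨w, hw, hw'⟩ := exists_mul_pow_prime_pow hπ hc u g a
  rw [hga, mul_one] at hw
  obtain ⟨k, hk⟩ := (isPGroup_pCore (p := p) (G := G)) w
  have h2 := hexp ((u : G) * g) ⟨a + k, by rw [pow_add, pow_mul, hw, ← SubmonoidClass.coe_pow, hk]; rfl⟩
  rw [hw] at h2
  rw [← hw', show w = 1 from Subtype.ext h2, pi_one hπ, LinearMap.zero_apply]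

end Cfsg.Agent.Lib.PSolvable
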