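/-
The `p`-length of a quotient by the `p`-core, the `p`-length bounded by the other lengths, and
the derived length bounded by lengths and derived lengths of Sylow subgroups.
-/
import Mathlib
import Cfsg.Agent.Lib.PSolvable.PLength

set_option autoImplicit false
set_option linter.unusedSectionVars false
set_option linter.style.haveILetI false

namespace Cfsg.Agent.Lib.PSolvable

universe u v

variable {p : ℕ} [hp : Fact p.Prime]

theorem upperPSeries_map_le {G : Type u} [Group G] [Finite G] {H : Type v} [Group H] [Finite H]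
    (f : G →* H) (hf : Function.Surjective f) (n : ℕ) :
    (Cfsg.upperPSeries p G n).1.map f ≤ (Cfsg.upperPSeries p H n).1 := by
  have := le_upperPSeries_of_chain (fun n => (Cfsg.upperPSeries p G n).1.map f)
    (fun n => Subgroup.Normal.map inferInstance f hf) (a := 0) (b := 0) ⟨0, rfl⟩
    (by
      show (Cfsg.upperPSeries p G 0).1.map f ≤ _
      rw [upperPSeries_zero, Subgroup.map_bot]
      exact bot_le)
    (fun i => (relIndex_upperPSeries_odd i).coprime_dvd_left (relIndex_map_dvd f _ _))
    (fun i => by
      obtain ⟨m, hm⟩ := relIndex_upperPSeries_even (p := p) (G := G) i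
      have h1 := relIndex_map_dvd f
        (Cfsg.upperPSeries p G (2 * i + 1)).1 (Cfsg.upperPSeries p G (2 * i + 2)).1
      rw [hm] at h1
      obtain ⟨j, -, hj⟩ := (Nat.dvd_prime_pow hp.out).mp h1
      exact ⟨j, hj⟩) n
  rwa [zero_add] at this

instance upperPSeries_characteristic {G : Type u} [Group G] [Finite G] (n : ℕ) :
    (Cfsg.upperPSeries p G n).1.Characteristic :=
  Subgroup.characteristic_iff_map_le.mpr fun φ => upperPSeries_map_le φ.toMonoidHom φ.surjective n

/-- Passing to `G / O_p(G)` drops the `p`-length when `O_{p'}(G) = 1`. -/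
theorem pLengthLE_quotient_pCore {G : Type u} [Group G] [Finite G]
    (h1 : Cfsg.pPrimeCore p G = ⊥) {k : ℕ} (h : Cfsg.PLengthLE p (k + 1) G) :
    Cfsg.PLengthLE p k (G ⧸ Cfsg.pCore p G) := by
  have hU : (Cfsg.upperPSeries p G 2).1 ≤ Cfsg.pCore p G := by
    refine le_pCore inferInstance ?_
    have hU1 : (Cfsg.upperPSeries p G 1).1 = ⊥ := by
      rw [eq_bot_iff, ← h1]
      refine le_pPrimeCore inferInstance ?_
      have := relIndex_upperPSeries_odd (p := p) (G := G) 0
      rwa [show (Cfsg.upperPSeries p G (2 * 0)).1 = ⊥ from rfl, Subgroup.relIndex_bot_left] at this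
    obtain ⟨m, hm⟩ := relIndex_upperPSeries_even (p := p) (G := G) 0
    rw [show (Cfsg.upperPSeries p G (2 * 0 + 1)).1 = ⊥ from hU1, Subgroup.relIndex_bot_left] at hm
    exact IsPGroup.of_card hm
  have := le_upperPSeries_of_chain (p := p)
    (fun n => (Cfsg.upperPSeries p G (n + 2)).1.map (QuotientGroup.mk' (Cfsg.pCore p G)))
    (fun n => Subgroup.Normal.map inferInstance _ (QuotientGroup.mk'_surjective _))
    (a := 0) (b := 0) ⟨0, rfl⟩
    (by
      show (Cfsg.upperPSeries p G 2).1.map _ ≤ _
      rw [upperPSeries_zero, le_bot_iff, Subgroup.map_eq_bot_iff, QuotientGroup.ker_mk']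
      exact hU)
    (fun i => by
      have h2 := relIndex_upperPSeries_odd (p := p) (G := G) (i + 1)
      rw [show 2 * (i + 1) = 2 * i + 2 by omega] at h2
      exact h2.coprime_dvd_left (relIndex_map_dvd _ _ _))
    (fun i => by
      obtain ⟨m, hm⟩ := relIndex_upperPSeries_even (p := p) (G := G) (i + 1)
      have h2 := relIndex_map_dvd (QuotientGroup.mk' (Cfsg.pCore p G))
        (Cfsg.upperPSeries p G (2 * i + 1 + 2)).1 (Cfsg.upperPSeries p G (2 * i + 2 + 2)).1
      rw [show 2 * (i + 1) + 1 = 2 * i + 1 + 2 by omega,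
        show 2 * (i + 1) + 2 = 2 * i + 2 + 2 by omega] at hm
      rw [hm] at h2
      obtain ⟨j, -, hj⟩ := (Nat.dvd_prime_pow hp.out).mp h2
      exact ⟨j, hj⟩) (2 * k + 1)
  rw [zero_add, show 2 * k + 1 + 2 = 2 * (k + 1) + 1 by omega, pLengthLE_def.mp h,
    Subgroup.map_top_of_surjective _ (QuotientGroup.mk'_surjective _)] at this
  exact top_le_iff.mp this

/-- A normal `p'`-factor above a member of odd index stays in it. -/
theorem le_upperPSeries_odd' {G : Type u} [Group G] [Finite G] {N M : Subgroup G} [M.Normal] {i : ℕ}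
    (hN : N ≤ (Cfsg.upperPSeries p G (2 * i + 1)).1) (h : (N.relIndex M).Coprime p) :
    M ≤ (Cfsg.upperPSeries p G (2 * i + 1)).1 := by
  set U := (Cfsg.upperPSeries p G (2 * i + 1)).1 with hU
  refine le_trans (le_sup_left : M ≤ M ⊔ U) (le_upperPSeries_odd (N := (Cfsg.upperPSeries p G (2 * i)).1) le_rfl ?_)
  rw [← Subgroup.relIndex_mul_relIndex _ U (M ⊔ U) (upperPSeries_mono (by omega)) le_sup_right,
    Subgroup.relIndex_sup_right]
  exact (relIndex_upperPSeries_odd i).mul_left
    (h.coprime_dvd_left (Subgroup.relIndex_dvd_of_le_left M hN))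

/-- Lengths for the other primes bound the `p`-length. -/
theorem pLengthLE_prod {r : ℕ} (q : Fin r → ℕ) (l : Fin r → ℕ)
    (hq : ∀ i, (q i).Prime ∧ q i ≠ p) (s : Finset (Fin r)) :
    ∀ {G : Type u} [Group G] [Finite G],
      (∀ t : ℕ, t.Prime → t ∣ Nat.card G → t ≠ p → ∃ i ∈ s, q i = t) →
      (∀ i ∈ s, Cfsg.PLengthLE (q i) (l i) G) →
      Cfsg.PLengthLE p (∏ i ∈ s, (1 + l i)) G := by
  classical
  induction s using Finset.induction_on with
  | empty =>
    intro G _ _ hcov _
    rw [Finset.prod_empty]
    refine pLengthLE_of_isPGroup (IsPGroup.of_card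
      (Nat.eq_prime_pow_of_unique_prime_dvd Nat.card_pos.ne' fun {t} ht hd => ?_))
    by_contra hne
    obtain ⟨i, hi, -⟩ := hcov t ht hd hne
    exact absurd hi (Finset.notMem_empty i)
  | insert a s ha ih =>
    intro G _ _ hcov hl
    haveI hqa := Fact.mk (hq a).1
    set k₀ := ∏ i ∈ s, (1 + l i)
    let Uq : ℕ → Subgroup G := fun n => (Cfsg.upperPSeries (q a) G n).1
    have hfac : ∀ k i, Uq (2 * k) ≤ (Cfsg.upperPSeries p G (2 * i + 1)).1 →
        Uq (2 * k + 1) ≤ (Cfsg.upperPSeries p G (2 * (i + k₀) + 1)).1 := by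
      intro k i hle
      set N := (Cfsg.upperPSeries (q a) G (2 * k)).1 with hN
      set M := (Cfsg.upperPSeries (q a) G (2 * k + 1)).1 with hM
      have hNM : N ≤ M := upperPSeries_mono (by omega)
      set X := M.map (QuotientGroup.mk' N) with hX
      haveI : X.Normal := Subgroup.Normal.map inferInstance _ (QuotientGroup.mk'_surjective N)
      have hXcard : (Nat.card X).Coprime (q a) := by
        rw [hX, ← Subgroup.relIndex_ker, QuotientGroup.ker_mk']
        exact relIndex_upperPSeries_odd k
      have hXl : Cfsg.PLengthLE p k₀ X := by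
        refine ih (G := X) (fun t ht hd hne => ?_) fun j hj => ?_
        · obtain ⟨j, hj, rfl⟩ := hcov t ht
            ((hd.trans (Subgroup.card_subgroup_dvd_card X)).trans N.card_quotient_dvd_card) hne
          refine ⟨j, ((Finset.mem_insert).mp hj).resolve_left ?_, rfl⟩
          rintro rfl
          exact ht.one_lt.ne' (Nat.eq_one_of_dvd_coprimes hXcard hd dvd_rfl)
        · haveI := Fact.mk (hq j).1
          exact pLengthLE_of_injective X.subtype X.subtype_injective
            (pLengthLE_of_surjective (QuotientGroup.mk' N) (QuotientGroup.mk'_surjective N)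
              (hl j (Finset.mem_insert_of_mem hj)))
      let T : ℕ → Subgroup G := fun n =>
        ((Cfsg.upperPSeries p X n).1.map X.subtype).comap (QuotientGroup.mk' N)
      have hrel : ∀ n, (T n).relIndex (T (n + 1)) =
          (Cfsg.upperPSeries p X n).1.relIndex (Cfsg.upperPSeries p X (n + 1)).1 := fun n => by
        rw [Subgroup.relIndex_comap, Subgroup.map_comap_eq_self_of_surjective
          (QuotientGroup.mk'_surjective N), Subgroup.relIndex_map_map,
          Subgroup.ker_subtype, sup_bot_eq, sup_bot_eq]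
      have h1 : T 1 ≤ (Cfsg.upperPSeries p G (2 * i + 1)).1 := by
        refine le_upperPSeries_odd' (N := T 0) ?_ ?_
        · show ((Cfsg.upperPSeries p X 0).1.map X.subtype).comap _ ≤ _
          rw [upperPSeries_zero, Subgroup.map_bot, MonoidHom.comap_bot, QuotientGroup.ker_mk']
          exact hle
        · rw [hrel]
          exact relIndex_upperPSeries_odd 0
      have hch := le_upperPSeries_of_chain T (fun n => inferInstance) (a := 1) (b := 2 * i + 1)
        ⟨i, by omega⟩ h1 (fun j => by rw [hrel]; exact relIndex_upperPSeries_odd j)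
        (fun j => by rw [hrel]; exact relIndex_upperPSeries_even j) (2 * k₀)
      rw [show 2 * i + 1 + 2 * k₀ = 2 * (i + k₀) + 1 by omega] at hch
      refine le_trans ?_ hch
      show M ≤ ((Cfsg.upperPSeries p X (1 + 2 * k₀)).1.map X.subtype).comap _
      rw [add_comm 1 (2 * k₀), pLengthLE_def.mp hXl, ← MonoidHom.range_eq_map,
        Subgroup.range_subtype, hX]
      exact Subgroup.le_comap_map _ _
    have hall : ∀ k, Uq (2 * k + 1) ≤ (Cfsg.upperPSeries p G (2 * ((k + 1) * k₀) + 1)).1 := by
      intro k
      induction k with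
      | zero =>
        rw [zero_add, one_mul]
        have := hfac 0 0 (by
          show (Cfsg.upperPSeries (q a) G 0).1 ≤ _
          rw [upperPSeries_zero]
          exact bot_le)
        rwa [zero_add] at this
      | succ k ihk =>
        have h2 : Uq (2 * k + 2) ≤ (Cfsg.upperPSeries p G (2 * ((k + 1) * k₀) + 1)).1 := by
          obtain ⟨m, hm⟩ := relIndex_upperPSeries_even (p := q a) (G := G) k
          refine le_upperPSeries_odd' (N := Uq (2 * k + 1)) ihk ?_
          rw [hm]
          exact ((Nat.coprime_primes (hq a).1 hp.out).mpr (hq a).2).pow_left m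
        have h3 := hfac (k + 1) _ h2
        rwa [show (k + 1) * k₀ + k₀ = (k + 1 + 1) * k₀ by ring] at h3
    rw [Finset.prod_insert ha, pLengthLE_def, ← top_le_iff, add_comm 1 (l a)]
    exact (le_of_eq (pLengthLE_def.mp (hl a (Finset.mem_insert_self a s))).symm).trans (hall (l a))

/-- A nontrivial finite soluble group has a nontrivial core for some prime. -/
theorem exists_pCore_ne_bot {G : Type u} [Group G] [Finite G] [Nontrivial G]
    [Group.IsSolvable G] : ∃ t : ℕ, t.Prime ∧ Cfsg.pCore t G ≠ ⊥ := by
  classical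
  obtain ⟨n, hn⟩ := (inferInstance : Group.IsSolvable G).solvable
  have hex : ∃ n, derivedSeries G n = ⊥ := ⟨n, hn⟩
  obtain ⟨m, hm⟩ : ∃ m, Nat.find hex = m + 1 := by
    refine Nat.exists_eq_succ_of_ne_zero fun h0 => ?_
    have := Nat.find_spec hex
    rw [h0] at this
    exact bot_ne_top this.symm
  have h1 : derivedSeries G (m + 1) = ⊥ := hm ▸ Nat.find_spec hex
  have h2 : derivedSeries G m ≠ ⊥ := Nat.find_min hex (by omega)
  set A := derivedSeries G m
  haveI : A.Normal := derivedSeries_normal G m
  haveI := (Subgroup.nontrivial_iff_ne_bot A).mpr h2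
  rw [derivedSeries_succ, Subgroup.commutator_eq_bot_iff_le_centralizer] at h1
  have hcomm : ∀ a b : A, a * b = b * a := fun a b =>
    Subtype.ext (Subgroup.mem_centralizer_iff.mp (h1 b.2) a a.2)
  obtain ⟨t, ht, hd⟩ := Nat.exists_prime_and_dvd (Finite.one_lt_card (α := A)).ne'
  haveI := Fact.mk ht
  refine ⟨t, ht, fun hb => ?_⟩
  have hle := (pCore_map_le_of_normal (p := t) A).trans_eq hb
  rw [le_bot_iff, Subgroup.map_eq_bot_iff_of_injective _ A.subtype_injective] at hle
  obtain ⟨g, hg⟩ := exists_prime_orderOf_dvd_card' t hd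
  have hn' : (Subgroup.zpowers g).Normal := ⟨fun a ha b => by
    rwa [hcomm b a, mul_inv_cancel_right]⟩
  have hP : IsPGroup t (Subgroup.zpowers g) :=
    IsPGroup.of_card (n := 1) (by rw [Nat.card_zpowers, hg, pow_one])
  have h4 := (le_pCore hn' hP).trans_eq hle
  rw [le_bot_iff, Subgroup.zpowers_eq_bot] at h4
  exact ht.ne_one (by rw [← hg, h4, orderOf_one])

theorem derivedSeries_add_le {G : Type u} [Group G] {N : Subgroup G} {a : ℕ}
    (h : derivedSeries G a ≤ N) (b : ℕ) :
    derivedSeries G (a + b) ≤ (derivedSeries N b).map N.subtype := by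
  induction b with
  | zero =>
    rw [add_zero, derivedSeries_zero, ← MonoidHom.range_eq_map, Subgroup.range_subtype]
    exact h
  | succ b ih =>
    rw [← add_assoc, derivedSeries_succ, derivedSeries_succ, Subgroup.map_commutator]
    exact Subgroup.commutator_mono ih ih

theorem derivedSeries_le_of_quotient {G : Type u} [Group G] {N : Subgroup G} [N.Normal] {n : ℕ}
    (h : derivedSeries (G ⧸ N) n = ⊥) : derivedSeries G n ≤ N := by
  have := map_derivedSeries_eq (QuotientGroup.mk'_surjective N) n
  rw [h, Subgroup.map_eq_bot_iff, QuotientGroup.ker_mk'] at this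
  exact this

/-- Derived length of a soluble group from lengths and Sylow derived lengths. -/
theorem derivedSeries_sum_eq_bot {r : ℕ} (q : Fin r → ℕ) [∀ i, Fact (q i).Prime]
    (hinj : Function.Injective q) (d : Fin r → ℕ) (m : ℕ) :
    ∀ (l : Fin r → ℕ) {G : Type u} [Group G] [Finite G], Nat.card G ≤ m → Group.IsSolvable G →
      (∀ s : ℕ, s.Prime → s ∣ Nat.card G → ∃ i, q i = s) →
      (∀ i (S : Sylow (q i) G), derivedSeries (S : Subgroup G) (d i) = ⊥) →
      (∀ i, Cfsg.PLengthLE (q i) (l i) G) →
      derivedSeries G (∑ i, d i * l i) = ⊥ := by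
  classical
  induction m with
  | zero =>
    intro l G _ _ hm
    exact absurd (lt_of_lt_of_le Nat.card_pos hm) (lt_irrefl 0)
  | succ m ih =>
    intro l G _ _ hm hsol hcov hd hl
    haveI := hsol
    rcases subsingleton_or_nontrivial G with hG | hG
    · exact Subsingleton.elim _ _
    have hquot : ∀ (N : Subgroup G) [N.Normal], N ≠ ⊥ → ∀ l' : Fin r → ℕ,
        (∀ i, Cfsg.PLengthLE (q i) (l' i) (G ⧸ N)) → derivedSeries G (∑ i, d i * l' i) ≤ N := by
      intro N _ hN l' hl'
      refine derivedSeries_le_of_quotient (ih l' ?_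
        (Group.isSolvable_of_surjective (f := QuotientGroup.mk' N) (QuotientGroup.mk'_surjective N))
        (fun s hs hds => hcov s hs (hds.trans N.card_quotient_dvd_card)) (fun i S => ?_) hl')
      · have h1 := Subgroup.card_eq_card_quotient_mul_card_subgroup N
        have h2 : 1 < Nat.card N := by
          haveI := (Subgroup.nontrivial_iff_ne_bot N).mpr hN
          exact Finite.one_lt_card
        have h3 : 0 < Nat.card (G ⧸ N) := Nat.card_pos
        nlinarith
      · obtain ⟨S₀, rfl⟩ := Sylow.mapSurjective_surjective (QuotientGroup.mk'_surjective N) (q i) S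
        have := map_derivedSeries_eq
          (MonoidHom.subgroupMap_surjective (QuotientGroup.mk' N) (S₀ : Subgroup G)) (d i)
        rw [hd i S₀, Subgroup.map_bot] at this
        exact this.symm
    obtain ⟨p₀, hp₀, hP₀⟩ := exists_pCore_ne_bot (G := G)
    have hcard : ∀ t : ℕ, t.Prime → Cfsg.pCore t G ≠ ⊥ → t ∣ Nat.card G := by
      intro t ht hne
      haveI := Fact.mk ht
      haveI := (Subgroup.nontrivial_iff_ne_bot _).mpr hne
      obtain ⟨j, hj⟩ := IsPGroup.iff_card.mp (isPGroup_pCore (p := t) (G := G))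
      have hj0 : j ≠ 0 := by
        rintro rfl
        exact (Finite.one_lt_card (α := Cfsg.pCore t G)).ne' (by simpa using hj)
      exact ((dvd_pow_self t hj0).trans hj.symm.dvd).trans (Subgroup.card_subgroup_dvd_card _)
    obtain ⟨i₀, rfl⟩ := hcov p₀ hp₀ (hcard p₀ hp₀ hP₀)
    by_cases htwo : ∃ i, i ≠ i₀ ∧ Cfsg.pCore (q i) G ≠ ⊥
    · obtain ⟨i, hi, hPi⟩ := htwo
      have h1 := hquot _ hP₀ l fun j =>
        pLengthLE_of_surjective _ (QuotientGroup.mk'_surjective _) (hl j)
      have h2 := hquot _ hPi l fun j =>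
        pLengthLE_of_surjective _ (QuotientGroup.mk'_surjective _) (hl j)
      rw [eq_bot_iff]
      refine (le_inf h1 h2).trans ?_
      obtain ⟨a, ha⟩ := IsPGroup.iff_card.mp (isPGroup_pCore (p := q i₀) (G := G))
      obtain ⟨b, hb⟩ := IsPGroup.iff_card.mp (isPGroup_pCore (p := q i) (G := G))
      refine le_of_eq (Subgroup.inf_eq_bot_of_coprime ?_)
      rw [ha, hb]
      exact Nat.coprime_pow_primes _ _ Fact.out Fact.out fun e => hi (hinj e).symm
    · push Not at htwo
      have hprime : Cfsg.pPrimeCore (q i₀) G = ⊥ := by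
        by_contra hne
        haveI := (Subgroup.nontrivial_iff_ne_bot _).mpr hne
        obtain ⟨t, ht, hPt⟩ := exists_pCore_ne_bot (G := Cfsg.pPrimeCore (q i₀) G)
        haveI := Fact.mk ht
        have hle := pCore_map_le_of_normal (p := t) (Cfsg.pPrimeCore (q i₀) G)
        have hne' : Cfsg.pCore t G ≠ ⊥ := fun hb => hPt (by
          rw [hb, le_bot_iff, Subgroup.map_eq_bot_iff_of_injective _ (Subgroup.subtype_injective _)]
            at hle
          exact hle)
        obtain ⟨j, rfl⟩ := hcov t ht (hcard t ht hne')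
        by_cases hj : j = i₀
        · subst hj
          refine hPt ?_
          have hco : (Nat.card (Cfsg.pCore (q j) (Cfsg.pPrimeCore (q j) G))).Coprime (q j) :=
            card_pPrimeCore_coprime.coprime_dvd_left (Subgroup.card_subgroup_dvd_card _)
          obtain ⟨b, hb⟩ := IsPGroup.iff_card.mp
            (isPGroup_pCore (p := q j) (G := Cfsg.pPrimeCore (q j) G))
          refine Subgroup.card_eq_one.mp ?_
          rw [hb] at hco ⊢
          rcases Nat.eq_zero_or_pos b with rfl | hb0
          · rfl
          · exact absurd (Nat.eq_one_of_dvd_coprimes hco (dvd_pow_self _ hb0.ne') dvd_rfl) ht.ne_one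
        · exact hne' (htwo j hj)
      obtain ⟨k, hk⟩ : ∃ k, l i₀ = k + 1 := by
        refine Nat.exists_eq_succ_of_ne_zero fun h0 => ?_
        have := hl i₀
        rw [h0] at this
        exact pLengthLE_zero_iff.mp this (hcard _ Fact.out hP₀)
      have hl' : ∀ j, Cfsg.PLengthLE (q j) (Function.update l i₀ k j)
          (G ⧸ Cfsg.pCore (q i₀) G) := by
        intro j
        by_cases hj : j = i₀
        · subst hj
          rw [Function.update_self]
          exact pLengthLE_quotient_pCore hprime (hk ▸ hl j)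
        · rw [Function.update_of_ne hj]
          exact pLengthLE_of_surjective _ (QuotientGroup.mk'_surjective _) (hl j)
      have h1 := derivedSeries_add_le (hquot _ hP₀ _ hl') (d i₀)
      obtain ⟨S, hS⟩ := (isPGroup_pCore (p := q i₀) (G := G)).exists_le_sylow
      have h2 : derivedSeries ↥(Cfsg.pCore (q i₀) G) (d i₀) = ⊥ := by
        have := map_derivedSeries_le_derivedSeries (Subgroup.inclusion hS) (d i₀)
        rw [hd i₀ S, le_bot_iff,
          Subgroup.map_eq_bot_iff_of_injective _ (Subgroup.inclusion_injective hS)] at this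
        exact this
      rw [h2, Subgroup.map_bot, le_bot_iff] at h1
      have hsum : (∑ j, d j * Function.update l i₀ k j) + d i₀ = ∑ j, d j * l j := by
        rw [← Finset.add_sum_erase _ _ (Finset.mem_univ i₀),
          ← Finset.add_sum_erase _ (fun j => d j * l j) (Finset.mem_univ i₀),
          Finset.sum_congr rfl (fun j hj => by
            rw [Function.update_of_ne (Finset.ne_of_mem_erase hj)]), Function.update_self, hk,
          mul_add, mul_one]
        omega
      rwa [hsum] at h1

end Cfsg.Agent.Lib.PSolvable
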