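/-
`p`-length is at most the exponent of a Sylow `p`-subgroup when the exceptional case of
Theorem B cannot occur.
-/
import Mathlib
import Cfsg.Agent.Lib.PSolvable.PLength
import Cfsg.Agent.Lib.PSolvable.FrattiniModule
import Cfsg.Agent.Lib.HallHigmanB.Main

set_option autoImplicit false
set_option linter.unusedSectionVars false
set_option linter.style.haveILetI false

namespace Cfsg.Agent.Lib.PSolvable

universe u v

variable {p : ℕ} [hp : Fact p.Prime]

theorem isMulCommutative_sylow_of_surjective {G : Type u} [Group G] [Finite G] {H : Type v}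
    [Group H] (f : G →* H) (hf : Function.Surjective f) {q : ℕ} [Fact q.Prime]
    (h : ∀ S : Sylow q G, IsMulCommutative (S : Subgroup G)) (T : Sylow q H) :
    IsMulCommutative (T : Subgroup H) := by
  obtain ⟨S, rfl⟩ := Sylow.mapSurjective_surjective hf q T
  refine ⟨⟨fun a b => ?_⟩⟩
  obtain ⟨x, hx, hx'⟩ := a.2
  obtain ⟨y, hy, hy'⟩ := b.2
  refine Subtype.ext ?_
  show (a : H) * b = b * a
  rw [← hx', ← hy', ← map_mul, ← map_mul]
  exact congrArg f (congrArg Subtype.val ((h S).is_comm.comm ⟨x, hx⟩ ⟨y, hy⟩))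

theorem pow_eq_one_of_sylow {G : Type u} [Group G] {m : ℕ}
    (h : ∀ (P : Sylow p G), ∀ x ∈ (P : Subgroup G), x ^ p ^ m = 1) (x : G)
    (hx : ∃ k : ℕ, x ^ p ^ k = 1) : x ^ p ^ m = 1 := by
  obtain ⟨k, hk⟩ := hx
  have hZ : IsPGroup p (Subgroup.zpowers x) := by
    rintro ⟨_, i, rfl⟩
    refine ⟨k, Subtype.ext ?_⟩
    show ((x ^ i : G)) ^ p ^ k = 1
    rw [← zpow_natCast, ← zpow_mul, mul_comm, zpow_mul, zpow_natCast, hk, one_zpow]
  obtain ⟨S, hS⟩ := hZ.exists_le_sylow
  exact h S x (hS (Subgroup.mem_zpowers x))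

/-- A `p`-element of a quotient lifts to a `p`-element. -/
theorem exists_pElement_lift {G : Type u} [Group G] [Finite G] {H : Type v} [Group H]
    (f : G →* H) (hf : Function.Surjective f) (x : H) (hx : ∃ k : ℕ, x ^ p ^ k = 1) :
    ∃ g : G, (∃ k : ℕ, g ^ p ^ k = 1) ∧ f g = x := by
  obtain ⟨k, hk⟩ := hx
  have hZ : IsPGroup p (Subgroup.zpowers x) := by
    rintro ⟨_, i, rfl⟩
    refine ⟨k, Subtype.ext ?_⟩
    show ((x ^ i : H)) ^ p ^ k = 1
    rw [← zpow_natCast, ← zpow_mul, mul_comm, zpow_mul, zpow_natCast, hk, one_zpow]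
  obtain ⟨T, hT⟩ := hZ.exists_le_sylow
  obtain ⟨S, rfl⟩ := Sylow.mapSurjective_surjective hf p T
  obtain ⟨g, hg, hgx⟩ := hT (Subgroup.mem_zpowers x)
  obtain ⟨j, hj⟩ := S.isPGroup' ⟨g, hg⟩
  exact ⟨g, ⟨j, congrArg Subtype.val hj⟩, hgx⟩

/-- The exceptional prime powers of Theorem B have abelian Sylow subgroups. -/
def NoException (p : ℕ) (G : Type u) [Group G] : Prop :=
  ∀ (n₀ q d : ℕ), 1 ≤ n₀ → q.Prime → 1 ≤ d → p ^ n₀ - 1 = q ^ d →
    ∀ Q : Sylow q G, IsMulCommutative (Q : Subgroup G)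

theorem NoException.of_surjective {G : Type u} [Group G] [Finite G] {H : Type v}
    [Group H] (f : G →* H) (hf : Function.Surjective f) (h : NoException p G) :
    NoException p H := fun n₀ q d h1 hq h3 h4 T =>
  haveI := Fact.mk hq
  isMulCommutative_sylow_of_surjective f hf (h n₀ q d h1 hq h3 h4) T

theorem pLengthLE_of_exponent (m : ℕ) : ∀ {G : Type u} [Group G] [Finite G],
    Cfsg.IsPSolvable p G → NoException p G →
    (∀ x : G, (∃ k : ℕ, x ^ p ^ k = 1) → x ^ p ^ m = 1) → Cfsg.PLengthLE p m G := by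
  induction m with
  | zero =>
    intro G _ _ _ _ hexp
    refine pLengthLE_zero_iff.mpr fun hd => ?_
    obtain ⟨x, hx⟩ := exists_prime_orderOf_dvd_card' p hd
    have := hexp x ⟨1, by rw [pow_one, ← hx, pow_orderOf_eq_one]⟩
    rw [pow_zero, pow_one] at this
    exact hp.out.ne_one (by rw [← hx, this, orderOf_one])
  | succ m ih =>
    intro G _ _ hsol hne hexp
    refine pLengthLE_of_quotient_pPrime (N := Cfsg.pPrimeCore p G) card_pPrimeCore_coprime ?_
    set K := G ⧸ Cfsg.pPrimeCore p G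
    have hK1 : Cfsg.pPrimeCore p K = ⊥ := pPrimeCore_quotient_eq_bot _ rfl
    have hKsol : Cfsg.IsPSolvable p K := isPSolvable_quotient hsol _
    have hKne : NoException p K := hne.of_surjective _ (QuotientGroup.mk'_surjective _)
    have hKexp : ∀ x : K, (∃ k : ℕ, x ^ p ^ k = 1) → x ^ p ^ (m + 1) = 1 := fun x hx => by
      obtain ⟨g, hg, rfl⟩ := exists_pElement_lift _ (QuotientGroup.mk'_surjective _) x hx
      rw [← map_pow, hexp g hg, map_one]
    refine pLengthLE_succ_of_quotient_pCore (ih (isPSolvable_quotient hKsol _)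
      (hKne.of_surjective _ (QuotientGroup.mk'_surjective _)) fun x hx => ?_)
    obtain ⟨g, hg, rfl⟩ := exists_pElement_lift _ (QuotientGroup.mk'_surjective _) x hx
    have h2 : (QuotientGroup.mk' (Cfsg.pCore p K) g) ^ p ^ (m + 1) = 1 := by
      rw [← map_pow, hKexp g hg, map_one]
    obtain ⟨i, hi, ho⟩ := (Nat.dvd_prime_pow hp.out).mp (orderOf_dvd_of_pow_eq_one h2)
    by_cases him : i ≤ m
    · exact orderOf_dvd_iff_pow_eq_one.mp (ho ▸ pow_dvd_pow p him)
    exfalso
    obtain ⟨V, hV1, hV2, hV3, π, f, hs, hπ, -, hinj, hc⟩ := exists_module hKsol hK1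
    have hzero := sub_one_pow_eq_zero hπ hs hc hKexp g hg
    rcases HallHigmanB.theoremB (isPSolvable_quotient hKsol _) (pCore_quotient_eq_bot _ rfl)
        f hinj _ m (show orderOf (g : K ⧸ Cfsg.pCore p K) = p ^ (m + 1) by
          rw [show m + 1 = i by omega]; exact ho) with h | ⟨n₀, q, d, h1, -, h3, h4, h5, h6, -⟩
    · exact h hzero
    · haveI := Fact.mk h3
      exact h6 default (hKne.of_surjective (QuotientGroup.mk' (Cfsg.pCore p K))
        (QuotientGroup.mk'_surjective _) n₀ q d h1 h3 h4 h5 default)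

/-- For an odd non-Fermat prime there is no exception. -/
theorem noException_of_not_fermat (hp2 : p ≠ 2) (h : ¬ ∃ k : ℕ, p = 2 ^ k + 1) (G : Type u)
    [Group G] : NoException p G := by
  intro n₀ q d hn hq hd he
  exfalso
  have hodd : Odd p := hp.out.odd_of_ne_two hp2
  have h2q : 2 ∣ q ^ d := by
    rw [← he]
    obtain ⟨t, ht⟩ := hodd.pow (n := n₀)
    omega
  rw [((Nat.prime_dvd_prime_iff_eq Nat.prime_two hq).mp (Nat.prime_two.dvd_of_dvd_pow h2q)).symm]
    at he
  have hdvd : p - 1 ∣ 2 ^ d := he ▸ Nat.sub_one_dvd_pow_sub_one p n₀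
  obtain ⟨k, -, hk⟩ := (Nat.dvd_prime_pow Nat.prime_two).mp hdvd
  exact h ⟨k, by have := hp.out.two_le; omega⟩

/-- For an odd prime, abelian Sylow `2`-subgroups exclude the exception. -/
theorem noException_of_two (hp2 : p ≠ 2) {G : Type u} [Group G]
    (h : ∀ S : Sylow 2 G, IsMulCommutative (S : Subgroup G)) : NoException p G := by
  intro n₀ q d hn hq hd he Q
  have hodd : Odd p := hp.out.odd_of_ne_two hp2
  have h2q : 2 ∣ q ^ d := by
    rw [← he]
    obtain ⟨t, ht⟩ := hodd.pow (n := n₀)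
    omega
  obtain rfl := (Nat.prime_dvd_prime_iff_eq Nat.prime_two hq).mp (Nat.prime_two.dvd_of_dvd_pow h2q)
  exact h Q

/-- Abelian Sylow subgroups at the other primes exclude the exception. -/
theorem noException_of_abelian {G : Type u} [Group G]
    (h : ∀ (q : ℕ) [Fact q.Prime], q ≠ p → ∀ Q : Sylow q G, IsMulCommutative (Q : Subgroup G)) :
    NoException p G := by
  intro n₀ q d hn hq hd he Q
  haveI := Fact.mk hq
  refine h q (fun e => ?_) Q
  have h1 : p ∣ p ^ n₀ := dvd_pow_self p (by omega)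
  have h2 : p ∣ p ^ n₀ - 1 := by rw [he, e]; exact dvd_pow_self p (by omega)
  have h3 := Nat.dvd_sub h1 h2
  rw [Nat.sub_sub_self (Nat.one_le_pow _ _ hp.out.pos)] at h3
  exact hp.out.one_lt.ne' (Nat.dvd_one.mp h3)

end Cfsg.Agent.Lib.PSolvable
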