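/-
Linear algebra for quadratic and cubic action in characteristic three: characters fixed by a cubic
operator and the orbit count of a quadratic operator on a nondegenerate pairing.
-/
import Mathlib
import Cfsg.Agent.Lib.HallHigmanB.Irred
import Cfsg.Agent.Lib.FpfHeight.EigenChar

set_option autoImplicit false
set_option linter.unusedSectionVars false
set_option linter.style.haveILetI false

namespace Cfsg.Agent.Lib.PSolvable.Quadratic

open Module Cfsg.Agent.Lib.FpfHeight

variable {k : Type*} [Field k] [IsAlgClosed k] {M : Type*} [AddCommGroup M] [Module k M]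
  [FiniteDimensional k M]

/-- A coprime commuting family is diagonalisable. -/
theorem exists_eig_apply_ne {Z : Type*} [Group Z] [Finite Z] (ρ : Z →* Module.End k M)
    (hcomm : ∀ a b, Commute (ρ a) (ρ b)) (hcard : (Nat.card Z : k) ≠ 0) (T : Module.End k M)
    (hT : T ≠ 0) : ∃ μ : Z →* k, ∃ v, (∀ z, ρ z v = μ z • v) ∧ T v ≠ 0 := by
  classical
  haveI := Fintype.ofFinite Z
  by_contra hc
  push Not at hc
  set S : Submodule k M := ⨆ μ : Z →* k, OddPower.eigSub ρ μ
  have hS : S ≤ LinearMap.ker T :=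
    iSup_le fun μ v hv => hc μ v (OddPower.mem_eigSub.mp hv)
  have hSinv : ∀ a, ∀ v ∈ S, ρ a v ∈ S := by
    intro a v hv
    have hle : S ≤ S.comap (ρ a) := iSup_le fun μ v hv => by
      show ρ a v ∈ S
      rw [OddPower.mem_eigSub.mp hv a]
      exact Submodule.mem_iSup_of_mem μ (Submodule.smul_mem _ _ hv)
    exact hle hv
  have hne : S ≠ ⊤ := fun h => hT (LinearMap.ker_eq_top.mp (eq_top_iff.mpr (h ▸ hS)))
  haveI : Nontrivial (M ⧸ S) := Submodule.Quotient.nontrivial_iff.mpr hne
  let ρq : Z →* Module.End k (M ⧸ S) :=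
    { toFun := fun a => S.mapQ S (ρ a) (fun v hv => hSinv a v hv)
      map_one' := Submodule.linearMap_qext _ (LinearMap.ext fun v => by simp)
      map_mul' := fun a b => Submodule.linearMap_qext _ (LinearMap.ext fun v => by simp) }
  have hρq : ∀ a v, ρq a (Submodule.Quotient.mk v) = Submodule.Quotient.mk (ρ a v) := fun a v => rfl
  obtain ⟨w, μ, -, hw0, hw⟩ := EigenChar.exists_common_eigenvector ρq
    (fun a b => by rw [Commute, SemiconjBy, ← map_mul, ← map_mul]
                   refine Submodule.linearMap_qext _ (LinearMap.ext fun v => ?_)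
                   show Submodule.Quotient.mk (ρ (a * b) v) = Submodule.Quotient.mk (ρ (b * a) v)
                   rw [map_mul, map_mul, (hcomm a b).eq])
    ⊤ top_ne_bot fun _ _ _ => trivial
  obtain ⟨v, rfl⟩ := Submodule.Quotient.mk_surjective S w
  set v' : M := ∑ z, μ z⁻¹ • ρ z v with hv'
  have hv'S : v' ∈ S := by
    refine Submodule.mem_iSup_of_mem μ (OddPower.mem_eigSub.mpr fun a => ?_)
    rw [hv', map_sum, Finset.smul_sum]
    refine Fintype.sum_bijective (a * ·) (Group.mulLeft_bijective a) _ _ fun z => ?_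
    rw [map_smul, smul_smul, ← Module.End.mul_apply, ← map_mul]
    congr 1
    rw [mul_inv_rev, map_mul μ, mul_left_comm, ← map_mul μ a, mul_inv_cancel, map_one, mul_one]
  have h1 : (Submodule.Quotient.mk v' : M ⧸ S) = (Nat.card Z : k) • Submodule.Quotient.mk v := by
    rw [hv', ← Submodule.mkQ_apply, map_sum]
    simp only [map_smul, Submodule.mkQ_apply, ← hρq, hw, smul_smul, ← map_mul, inv_mul_cancel,
      map_one, one_smul, Finset.sum_const, Finset.card_univ, Nat.card_eq_fintype_card]
    rw [Nat.cast_smul_eq_nsmul]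
  rw [(Submodule.Quotient.mk_eq_zero S).mpr hv'S] at h1
  exact hw0 ((smul_eq_zero.mp h1.symm).resolve_left hcard)

variable [CharP k 3]

/-- A cubic operator fixes every character on which the companion operator is nontrivial. -/
theorem char_fixed {R : Type*} [Group R] [Finite R] (ρ : R →* Module.End k M)
    (hcard : (Nat.card R : k) ≠ 0) (σ : MulAut R) {j : ℕ} (hσ : σ ^ (3 ^ j) = 1)
    (Y T : Module.End k M) (hY : ∀ r, Y * ρ r = ρ (σ r) * Y) (hT : ∀ r, T * ρ r = ρ r * T)
    (h : T * (Y - 1) ^ 2 = 0) (μ : R →* k) (v : M) (hv : ∀ r, ρ r v = μ r • v) (hTv : T v ≠ 0) :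
    ∀ r, μ (σ r) = μ r := by
  classical
  set μ₁ := μ.comp σ.symm.toMonoidHom with hμ₁
  set μ₂ := μ₁.comp σ.symm.toMonoidHom with hμ₂
  have hstep : ∀ (μ' : R →* k) (w : M), (∀ r, ρ r w = μ' r • w) →
      ∀ r, ρ r (Y w) = μ'.comp σ.symm.toMonoidHom r • Y w := by
    intro μ' w hw r
    obtain ⟨r, rfl⟩ := σ.surjective r
    rw [← Module.End.mul_apply, ← hY, Module.End.mul_apply, hw, map_smul, MonoidHom.comp_apply]
    rw [show σ.symm.toMonoidHom (σ r) = r from σ.symm_apply_apply r]
  have hTe : ∀ (μ' : R →* k) (w : M), (∀ r, ρ r w = μ' r • w) →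
      ∀ r, ρ r (T w) = μ' r • T w := fun μ' w hw r => by
    rw [← Module.End.mul_apply, ← hT, Module.End.mul_apply, hw, map_smul]
  by_contra hne
  push Not at hne
  obtain ⟨r₀, hr₀⟩ := hne
  have h01 : μ ≠ μ₁ := fun e => hr₀ (by
    have := DFunLike.congr_fun e (σ r₀)
    rwa [hμ₁, MonoidHom.comp_apply, show σ.symm.toMonoidHom (σ r₀) = r₀ from σ.symm_apply_apply r₀]
      at this)
  have h12 : μ₁ ≠ μ₂ := fun e => h01 (MonoidHom.ext fun r => by
    have h' : μ₁ (σ r) = μ₁ (σ.symm (σ r)) := DFunLike.congr_fun e (σ r)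
    rw [σ.symm_apply_apply] at h'
    rw [← h']
    exact congrArg μ (σ.symm_apply_apply r).symm)
  have h02 : μ ≠ μ₂ := fun e => hr₀ (by
    have h2 : ∀ r, μ ((σ ^ 2) r) = μ r := fun r => by
      have := DFunLike.congr_fun e ((σ ^ 2) r)
      rw [this, hμ₂, hμ₁, MonoidHom.comp_apply, MonoidHom.comp_apply]
      exact congrArg μ (by
        rw [pow_two, MulAut.mul_apply]
        show σ.symm (σ.symm (σ (σ r))) = r
        simp)
    have h3 : ∀ (i : ℕ) r, μ (((σ ^ 2) ^ i) r) = μ r := fun i => OddPower.char_pow_apply h2 i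
    obtain ⟨i, hi⟩ : ∃ i, 3 ^ j + 1 = 2 * i := by
      obtain ⟨i, hi⟩ := (Nat.odd_iff.mpr (show 3 % 2 = 1 from rfl)).pow (n := j)
      exact ⟨i + 1, by omega⟩
    have := h3 i r₀
    rwa [← pow_mul, ← hi, pow_succ, hσ, one_mul] at this)
  let w : Fin 3 → M := ![T v, (-2 : k) • T (Y v), T (Y (Y v))]
  let μs : Fin 3 → R →* k := ![μ, μ₁, μ₂]
  have hsum : ∑ i, w i = 0 := by
    have h1 := LinearMap.congr_fun h v
    rw [Module.End.mul_apply, pow_two, Module.End.mul_apply] at h1
    simp only [LinearMap.sub_apply, Module.End.one_apply, map_sub, LinearMap.zero_apply] at h1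
    rw [Fin.sum_univ_three]
    show T v + (-2 : k) • T (Y v) + T (Y (Y v)) = 0
    rw [← h1]
    module
  refine hTv (EigenChar.eq_zero_of_sum_eq_zero ρ hcard Finset.univ μs w ?_ ?_ hsum 0
    (Finset.mem_univ _))
  · intro i _ r
    fin_cases i
    · exact hTe μ v hv r
    · show ρ r ((-2 : k) • T (Y v)) = μ₁ r • ((-2 : k) • T (Y v))
      rw [map_smul, hTe _ _ (hstep μ v hv) r, smul_comm]
    · exact hTe _ _ (hstep _ _ (hstep μ v hv)) r
  · intro a _ b _ hab
    fin_cases a <;> fin_cases b <;>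
      first | rfl | exact absurd hab h01 | exact absurd hab.symm h01 | exact absurd hab h12 |
        exact absurd hab.symm h12 | exact absurd hab h02 | exact absurd hab.symm h02

variable {Q : Type*} [Group Q] [Finite Q] {R : Subgroup Q} [R.Normal] {ν : R →* k}

/-- A quadratic operator fixes at least a quarter of the classes. -/
theorem card_quotient_le [Nontrivial M] (S : Extraspecial.Setup R 1 ν 1) {ρ : Q →* Module.End k M}
    (hρ : Extraspecial.IsScalar ν ρ) (δ : MulAut Q) (hδR : ∀ r ∈ R, δ r = r) (hδ : δ ^ 3 = 1)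
    (X : Module.End k M) (hX : ∀ u, X * ρ u = ρ (δ u) * X) (hX2 : (X - 1) ^ 2 = 0) :
    Nat.card (Q ⧸ R) ≤ 4 * Nat.card {c : Q ⧸ R // ((δ c.out : Q) : Q ⧸ R) = c} := by
  classical
  haveI := Fintype.ofFinite (Q ⧸ R)
  haveI : Fact (Nat.Prime 3) := ⟨Nat.prime_three⟩
  have hX3 : X ^ 3 = 1 := by
    have h := HallHigmanB.sub_one_pow_char_pow (p := 3) X 1
    rw [pow_one, pow_succ, hX2, zero_mul] at h
    exact sub_eq_zero.mp h.symm
  -- an irreducible piece
  obtain ⟨U, ⟨hU0, hUQ⟩, hUmin⟩ := exists_minimal_of_wellFoundedLT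
    (fun U : Submodule k M => U ≠ ⊥ ∧ ∀ u, ∀ v ∈ U, ρ u v ∈ U) ⟨⊤, top_ne_bot, fun _ _ _ => trivial⟩
  haveI : Nontrivial U := Submodule.nontrivial_iff_ne_bot.mpr hU0
  set ρU := OddPower.resRep ρ U hUQ
  have hρUs : Extraspecial.IsScalar ν ρU := fun r =>
    LinearMap.ext fun v => Subtype.ext (LinearMap.congr_fun (hρ r) (v : M))
  have hirr : Extraspecial.IsIrred ρU := by
    intro U' hU'
    by_cases h : U' = ⊥
    · exact Or.inl h
    refine Or.inr (eq_top_iff.mpr fun v _ => ?_)
    have hle := hUmin (y := U'.map U.subtype)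
      ⟨fun h0 => h (Submodule.map_injective_of_injective U.subtype_injective
        (h0.trans (Submodule.map_bot _).symm)), ?_⟩
      (Submodule.map_subtype_le U U')
    · obtain ⟨w, hw, hwv⟩ := hle v.2
      exact Subtype.ext hwv ▸ hw
    · rintro u _ ⟨w, hw, rfl⟩
      exact ⟨ρU u w, hU' u w hw, rfl⟩
  obtain ⟨T₀, hT0, hT⟩ := S.exists_intertwiner (ρ₁ := ρU) (ρ₂ := ρU.comp δ.toMonoidHom) hρUs
    (fun r => by
      show ρU (δ r) = _
      rw [hδR r r.2]
      exact hρUs r)
  have hTinj : Function.Injective T₀ := by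
    rw [← LinearMap.ker_eq_bot]
    refine (hirr (LinearMap.ker T₀) fun u v hv => ?_).resolve_right fun h =>
      hT0 (LinearMap.ker_eq_top.mp h)
    rw [LinearMap.mem_ker] at hv ⊢
    have := LinearMap.congr_fun (hT u) v
    rw [LinearMap.comp_apply, LinearMap.comp_apply, hv, map_zero] at this
    exact this.symm
  have hTρ : ∀ u, T₀ * ρU u = ρU (δ u) * T₀ := fun u => (hT u).symm
  obtain ⟨c, hc⟩ := HallHigmanB.exists_scalar hirr (f := T₀ ^ 3) fun u => by
    rw [Commute, SemiconjBy, OddPower.pow_semiconj hTρ, hδ]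
    rfl
  have hc0 : c ≠ 0 := by
    intro h0
    obtain ⟨v, hv⟩ := exists_ne (0 : U)
    have h1 : Function.Injective ((T₀ ^ 3 : Module.End k U)) := by
      rw [Module.End.coe_pow]
      exact hTinj.iterate _
    exact hv (h1 (by rw [hc, h0, zero_smul, LinearMap.zero_apply, map_zero]))
  obtain ⟨d₀, hd₀⟩ := IsAlgClosed.exists_pow_nat_eq c⁻¹ (show 0 < 3 by norm_num)
  set T := d₀ • T₀ with hTdef
  have hT3 : T ^ 3 = 1 := by
    rw [hTdef, smul_pow, hd₀, hc, smul_smul, inv_mul_cancel₀ hc0, one_smul]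
  have hTu : ∀ u, T * ρU u = ρU (δ u) * T := fun u => by
    rw [hTdef, smul_mul_assoc, mul_smul_comm, hTρ]
  -- an equivariant embedding intertwining `T` with `X`
  let Φ : Module.End k (U →ₗ[k] M) :=
    { toFun := fun φ => X.comp (φ.comp (T ^ 2))
      map_add' := fun φ ψ => by simp [LinearMap.comp_add, LinearMap.add_comp]
      map_smul' := fun a φ => by simp [LinearMap.comp_smul, LinearMap.smul_comp] }
  have hΦpow : ∀ (i : ℕ) (φ : U →ₗ[k] M), (Φ ^ i) φ = (X ^ i).comp (φ.comp ((T ^ 2) ^ i)) := by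
    intro i
    induction i with
    | zero => intro φ; rfl
    | succ i ih =>
      intro φ
      rw [pow_succ', Module.End.mul_apply, ih, pow_succ' X, pow_succ (T ^ 2)]
      rfl
  have hN : (Φ - 1) ^ 3 = (0 : Module.End k (U →ₗ[k] M)) := by
    have h := HallHigmanB.sub_one_pow_char_pow (p := 3) Φ 1
    rw [pow_one] at h
    rw [h, show Φ ^ 3 = 1 from LinearMap.ext fun φ => by
      rw [hΦpow, hX3, ← pow_mul, pow_mul', hT3, one_pow]; rfl]
    exact sub_self (1 : Module.End k (U →ₗ[k] M))
  let Hom : Submodule k (U →ₗ[k] M) :=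
    { carrier := {φ | ∀ u, (ρ u).comp φ = φ.comp (ρU u)}
      add_mem' := fun {φ ψ} h1 h2 u => by
        rw [LinearMap.comp_add, LinearMap.add_comp, h1 u, h2 u]
      zero_mem' := fun u => by simp
      smul_mem' := fun a φ h u => by rw [LinearMap.comp_smul, LinearMap.smul_comp, h u] }
  have hΦH : ∀ φ ∈ Hom, (Φ - 1) φ ∈ Hom := by
    intro φ hφ
    refine Hom.sub_mem (fun u => LinearMap.ext fun v => ?_) hφ
    show ρ u (X (φ ((T ^ 2) v))) = X (φ ((T ^ 2) (ρU u v)))
    obtain ⟨a, rfl⟩ := δ.surjective u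
    have h1 : (T ^ 2) (ρU (δ a) v) = ρU a ((T ^ 2) v) := by
      have h2 := LinearMap.congr_fun (OddPower.pow_semiconj hTu 2 (δ a)) v
      rw [Module.End.mul_apply, Module.End.mul_apply, ← MulAut.mul_apply, ← pow_succ, hδ] at h2
      exact h2
    rw [h1, ← Module.End.mul_apply (ρ (δ a)), ← hX, Module.End.mul_apply]
    exact congrArg X (LinearMap.congr_fun (hφ a) ((T ^ 2) v))
  obtain ⟨φ, hφH, hφ0, hφfix⟩ : ∃ φ ∈ Hom, φ ≠ 0 ∧ (Φ - 1) φ = 0 := by
    set N : Module.End k (U →ₗ[k] M) := Φ - 1
    have hpow : (N ^ 3) U.subtype = 0 := by rw [hN]; rfl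
    have hsub : U.subtype ∈ Hom := fun u => LinearMap.ext fun v => rfl
    by_contra hc'
    push Not at hc'
    have hall : ∀ j : ℕ, (N ^ j) U.subtype ∈ Hom ∧ (N ^ j) U.subtype ≠ 0 := by
      intro j
      induction j with
      | zero =>
        refine ⟨hsub, fun h => ?_⟩
        obtain ⟨v, hv⟩ := exists_ne (0 : U)
        exact hv (Subtype.ext (LinearMap.congr_fun h v))
      | succ j ih =>
        rw [pow_succ', Module.End.mul_apply]
        exact ⟨hΦH _ ih.1, hc' _ ih.1 ih.2⟩
    exact (hall 3).2 hpow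
  have hφinj : Function.Injective φ := by
    rw [← LinearMap.ker_eq_bot]
    refine (hirr (LinearMap.ker φ) fun u v hv => ?_).resolve_right fun h =>
      hφ0 (LinearMap.ker_eq_top.mp h)
    rw [LinearMap.mem_ker] at hv ⊢
    rw [← LinearMap.comp_apply, ← hφH u, LinearMap.comp_apply, hv, map_zero]
  have hφX : ∀ v, φ (T v) = X (φ v) := by
    intro v
    rw [LinearMap.sub_apply, Module.End.one_apply, sub_eq_zero] at hφfix
    have h2 := LinearMap.congr_fun hφfix (T v)
    rw [← h2]
    show X (φ ((T ^ 2) (T v))) = _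
    rw [← Module.End.mul_apply, ← pow_succ, hT3]
    rfl
  set n := T - 1 with hn
  have hn2 : n * n = 0 := LinearMap.ext fun v => hφinj (by
    have h2 := LinearMap.congr_fun hX2 (φ v)
    rw [pow_two, Module.End.mul_apply, LinearMap.sub_apply, LinearMap.sub_apply,
      Module.End.one_apply, Module.End.one_apply, map_sub, LinearMap.zero_apply] at h2
    simp only [hn, Module.End.mul_apply, LinearMap.sub_apply, Module.End.one_apply, map_sub, hφX,
      LinearMap.zero_apply, map_zero]
    exact h2)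
  -- the trace of a class is `n ρ n`
  have htr : ∀ u : Q, n * ρU u * n = ρU u + ρU (δ u) + ρU ((δ ^ 2) u) := by
    intro u
    have e : ∀ i ≤ 3, T ^ i * ρU u * T ^ (3 - i) = ρU ((δ ^ i) u) := fun i hi => by
      rw [OddPower.pow_semiconj hTu, mul_assoc, ← pow_add, Nat.add_sub_cancel' hi, hT3, mul_one]
    have e1 := e 1 (by norm_num)
    have e2 := e 2 (by norm_num)
    rw [pow_one, pow_one, show 3 - 1 = 2 from rfl] at e1
    rw [show 3 - 2 = 1 from rfl, pow_one] at e2
    rw [← e1, ← e2]
    have hT1 : T = 1 + n := by rw [hn, add_sub_cancel]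
    have h20 : (3 : Module.End k U) = 0 := by
      rw [show (3 : Module.End k U) = algebraMap k (Module.End k U) 3 from (map_ofNat _ 3).symm,
        show (3 : k) = 0 from CharP.cast_eq_zero k 3, map_zero]
    have hT2 : T ^ 2 = 1 - n := by
      rw [hT1, pow_two, add_mul, mul_add, mul_add, hn2, one_mul, one_mul, mul_one, add_zero]
      have : (1 + n + n) = 1 - n + 3 * n := by noncomm_ring
      rw [this, h20, zero_mul, add_zero]
    rw [hT2, hT1]
    have : ρU u + (1 + n) * ρU u * (1 - n) + (1 - n) * ρU u * (1 + n) = n * ρU u * n +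
        ((ρU u - n * ρU u * n) + (ρU u - n * ρU u * n) + (ρU u - n * ρU u * n)) := by
      simp only [add_mul, mul_add, sub_mul, mul_sub, one_mul, mul_one]
      abel
    rw [this, show ∀ x : Module.End k U, x + x + x = 3 * x from fun x => by noncomm_ring, h20,
      zero_mul, add_zero]
  -- the permutation of the classes
  let g : Q ⧸ R →* Q ⧸ R := QuotientGroup.map R R δ.toMonoidHom
    (fun r hr => by show δ r ∈ R; rw [hδR r hr]; exact hr)
  have hg : ∀ u : Q, g (u : Q ⧸ R) = ((δ u : Q) : Q ⧸ R) := fun u => rfl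
  have hgo : ∀ c : Q ⧸ R, ((δ c.out : Q) : Q ⧸ R) = g c := fun c => by
    rw [← hg, QuotientGroup.out_eq']
  have hg3 : ∀ c, g (g (g c)) = c := fun c => by
    induction c using QuotientGroup.induction_on with
    | H u =>
      rw [hg, hg, hg, ← MulAut.mul_apply, ← MulAut.mul_apply, ← pow_two, ← pow_succ, hδ]
      rfl
  let ix := Fintype.equivFin (Q ⧸ R)
  let R₀ : Finset (Q ⧸ R) := Finset.univ.filter fun c => g c ≠ c ∧ ix c ≤ ix (g c) ∧ ix c ≤ ix (g (g c))
  have hR₀ : ∀ c, c ∈ R₀ ↔ g c ≠ c ∧ ix c ≤ ix (g c) ∧ ix c ≤ ix (g (g c)) := fun c => by simp [R₀]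
  have hmoved : (Finset.univ.filter fun c => g c ≠ c).card ≤ 3 * R₀.card := by
    have hsub : (Finset.univ.filter fun c => g c ≠ c) ⊆
        R₀ ∪ R₀.image g ∪ R₀.image (fun c => g (g c)) := by
      intro c hc
      have hc' : g c ≠ c := (Finset.mem_filter.mp hc).2
      have hgne : g (g c) ≠ g c := fun e => hc' (by
        have := congrArg (fun z => g (g z)) e
        rw [hg3 c] at this
        exact this)
      have hggne : g (g (g c)) ≠ g (g c) := fun e => hc' (by
        have := congrArg g e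
        rw [hg3 c] at this
        exact this)
      simp only [Finset.mem_union, Finset.mem_image]
      rcases le_total (ix c) (ix (g c)) with h1 | h1 <;> rcases le_total (ix c) (ix (g (g c))) with h2 | h2 <;>
        rcases le_total (ix (g c)) (ix (g (g c))) with h3 | h3
      all_goals first
        | exact Or.inl (Or.inl ((hR₀ c).mpr ⟨hc', h1, h2⟩))
        | exact Or.inr ⟨g c, (hR₀ _).mpr ⟨hgne, h3, by rw [hg3]; omega⟩, hg3 c⟩
        | exact Or.inl (Or.inr ⟨g (g c), (hR₀ _).mpr ⟨hggne, by rw [hg3]; omega,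
            by rw [hg3]; omega⟩, hg3 c⟩)
    refine (Finset.card_le_card hsub).trans ((Finset.card_union_le _ _).trans ?_)
    have := Finset.card_union_le R₀ (R₀.image g)
    have := Finset.card_image_le (s := R₀) (f := g)
    have := Finset.card_image_le (s := R₀) (f := fun c => g (g c))
    omega
  -- independence of the traces
  let L : (R₀ → k) →ₗ[k] Module.End k U :=
    { toFun := fun a => ∑ c, a c • (n * ρU (c : Q ⧸ R).out * n)
      map_add' := fun a b => by simp [add_smul, Finset.sum_add_distrib]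
      map_smul' := fun t a => by simp [Finset.smul_sum, smul_smul] }
  have hLinj : Function.Injective L := by
    refine (injective_iff_map_eq_zero L).mpr fun a ha => funext fun c₀ => ?_
    have hex : ∀ u : Q, ∃ t : k, ρU u = t • ρU (u : Q ⧸ R).out := fun u => by
      obtain ⟨t, -, ht⟩ := S.rho_eq_smul hρUs u
      exact ⟨t, ht⟩
    choose s hs using hex
    let vec : (Q ⧸ R) → (Q ⧸ R → k) := fun c => Pi.single c 1 +
      Pi.single (g c) (s (δ c.out)) + Pi.single (g (g c)) (s ((δ ^ 2) c.out))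
    have hone : ∀ d (t : k), Extraspecial.combo R ρU (Pi.single d t) = t • ρU d.out := fun d t => by
      simp only [Extraspecial.combo_apply, Pi.single_apply, ite_smul, zero_smul, Finset.sum_ite_eq',
        Finset.mem_univ, if_true]
    have hvec : ∀ c : Q ⧸ R, Extraspecial.combo R ρU (vec c) = n * ρU c.out * n := fun c => by
      rw [htr, map_add, map_add, hone, hone, hone, one_smul, ← hgo c, ← hs,
        show g ((δ c.out : Q) : Q ⧸ R) = (((δ ^ 2) c.out : Q) : Q ⧸ R) from rfl, ← hs]
    have h1 : Extraspecial.combo R ρU (∑ c, a c • vec (c : Q ⧸ R)) = 0 := by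
      rw [map_sum]
      simp only [map_smul, hvec]
      exact ha
    have h2 := congrFun (S.combo_injective hρUs (h1.trans (map_zero _).symm)) (c₀ : Q ⧸ R)
    rw [Finset.sum_apply, Finset.sum_eq_single c₀] at h2
    · obtain ⟨hc0', -, -⟩ := (hR₀ _).mp c₀.2
      have hne2 : (c₀ : Q ⧸ R) ≠ g (g c₀) := fun e => hc0' (by
        have := congrArg g e
        rwa [hg3] at this)
      simpa [vec, Pi.single_apply, hc0'.symm, hne2] using h2
    · intro c _ hne
      obtain ⟨hc1, hc2, hc3⟩ := (hR₀ _).mp c.2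
      obtain ⟨hd1, hd2, hd3⟩ := (hR₀ _).mp c₀.2
      have hne0 : (c₀ : Q ⧸ R) ≠ c := fun e => hne (Subtype.ext e.symm)
      have hne1 : (c₀ : Q ⧸ R) ≠ g c := fun e => hne0 (ix.injective (le_antisymm
        (by rw [e, hg3] at hd3; rwa [e]) (by rwa [← e] at hc2)))
      have hne2 : (c₀ : Q ⧸ R) ≠ g (g c) := fun e => hne0 (ix.injective (le_antisymm
        (by rw [e, hg3] at hd2; rwa [e]) (by rwa [← e] at hc3)))
      simp [vec, Pi.single_apply, hne0, hne1, hne2]
    · simp
  -- bound on the rank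
  set ι := (LinearMap.range n).subtype
  let emb : Module.End k (LinearMap.range n) →ₗ[k] Module.End k U :=
    { toFun := fun B => ι.comp (B.comp n.rangeRestrict)
      map_add' := fun A B => by simp [LinearMap.add_comp, LinearMap.comp_add]
      map_smul' := fun t B => by simp [LinearMap.smul_comp, LinearMap.comp_smul] }
  have hrange : LinearMap.range L ≤ LinearMap.range emb := by
    rintro _ ⟨a, rfl⟩
    refine Submodule.sum_mem _ fun c _ => Submodule.smul_mem _ _ ⟨?_, ?_⟩
    · exact (n.rangeRestrict.comp (ρU (c : Q ⧸ R).out)).comp ι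
    · exact LinearMap.ext fun v => rfl
  have hR₀le : R₀.card ≤ finrank k (LinearMap.range n) * finrank k (LinearMap.range n) := by
    have h1 : R₀.card = finrank k (LinearMap.range L) := by
      rw [LinearMap.finrank_range_of_inj hLinj, Module.finrank_fintype_fun_eq_card, Fintype.card_coe]
    rw [h1]
    refine (Submodule.finrank_mono hrange).trans ((LinearMap.finrank_range_le emb).trans ?_)
    rw [Module.finrank_linearMap]
  have hhalf : 2 * finrank k (LinearMap.range n) ≤ finrank k U := by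
    have h1 := LinearMap.finrank_range_add_finrank_ker n
    have h2 : LinearMap.range n ≤ LinearMap.ker n := by
      rintro _ ⟨v, rfl⟩
      rw [LinearMap.mem_ker, ← Module.End.mul_apply, hn2, LinearMap.zero_apply]
    have h3 := Submodule.finrank_mono h2
    omega
  have hcard : Nat.card (Q ⧸ R) = finrank k U * finrank k U := by
    have e1 := LinearEquiv.finrank_eq (LinearEquiv.ofBijective (Extraspecial.combo R ρU)
      ⟨S.combo_injective hρUs, S.combo_surjective hρUs hirr⟩)
    rw [Module.finrank_fintype_fun_eq_card, Module.finrank_linearMap] at e1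
    rw [Nat.card_eq_fintype_card, e1]
  have hsplit : Nat.card (Q ⧸ R) = Nat.card {c : Q ⧸ R // ((δ c.out : Q) : Q ⧸ R) = c} +
      (Finset.univ.filter fun c => g c ≠ c).card := by
    rw [Nat.card_eq_fintype_card, Nat.card_eq_fintype_card, Fintype.card_subtype]
    simp only [hgo]
    exact (Finset.card_filter_add_card_filter_not _).symm
  set r := finrank k (LinearMap.range n)
  set m := finrank k U
  have h4 : 4 * (r * r) ≤ m * m := by nlinarith
  omega

end Cfsg.Agent.Lib.PSolvable.Quadratic
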