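/-
A subgroup whose commutator acts quadratically and cubically in characteristic three is abelian
when the ambient soluble-type group has trivial `O_3`.
-/
import Mathlib
import Cfsg.Agent.Lib.PSolvable.QuadraticCore
import Cfsg.Agent.Lib.HallHigmanB.Main

set_option autoImplicit false
set_option linter.unusedSectionVars false
set_option linter.style.haveILetI false

namespace Cfsg.Agent.Lib.PSolvable.Quadratic

open Module Cfsg.Agent.Lib.FpfHeight

section Finish

variable {W : Type*} [CommGroup W] [Finite W] {B : Type*} [Group B] [Finite B]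

theorem fixed_of_inv_mul {q : ℕ} [Fact q.Prime] (hq3 : q ≠ 3) (hW : IsPGroup q W) {e : MulAut W}
    (he : e ^ 3 = 1) {w : W} (h : e (w⁻¹ * e w) = w⁻¹ * e w) : e w = w := by
  have h3 := OddPower.pow_apply_mul (α := e) (y := w) (c := w⁻¹ * e w) (mul_inv_cancel_left _ _).symm h 3
  rw [he, MulAut.one_apply, left_eq_mul] at h3
  have := OddPower.eq_one_of_pow_eq_one Nat.prime_three hq3 hW h3
  exact (inv_mul_eq_one.mp this).symm

/-- Fixed points of an automorphism. -/
def fixSub (e : MulAut W) : Subgroup W :=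
  MonoidHom.eqLocus e.toMonoidHom (MonoidHom.id W)

theorem mem_fixSub {e : MulAut W} {w : W} : w ∈ fixSub e ↔ e w = w := Iff.rfl

theorem index_fixSub_ne_two {q : ℕ} [Fact q.Prime] (hq3 : q ≠ 3) (hW : IsPGroup q W)
    {e : MulAut W} (he : e ^ 3 = 1) : (fixSub e).index ≠ 2 := by
  intro h
  have hlt : fixSub e ≠ ⊤ := fun ht => by rw [ht, Subgroup.index_top] at h; omega
  obtain ⟨w, hw⟩ := not_forall.mp (mt (Subgroup.eq_top_iff' _).mpr hlt)
  refine hw (fixed_of_inv_mul hq3 hW he ?_)
  have hew : e w ∉ fixSub e := fun h' => hw (by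
    rw [mem_fixSub] at h'
    exact e.injective h')
  exact (Subgroup.mul_mem_iff_of_index_two h).mpr ⟨fun h' => absurd (inv_mem_iff.mp h') hw,
    fun h' => absurd h' hew⟩

theorem commute_mulAut_of_card_le {X : Type*} [Group X] [Finite X] (hX : Nat.card X ≤ 4)
    (φ : B →* MulAut X) (hB : IsPGroup 3 B) (x y : B) : φ x * φ y = φ y * φ x := by
  classical
  haveI : Fact (Nat.Prime 3) := ⟨Nat.prime_three⟩
  have h1 : Nat.card (MulAut X) ≤ Nat.card (Equiv.Perm {c : X // c ≠ 1}) := by
    refine Nat.card_le_card_of_injective (fun e => e.toEquiv.subtypeEquiv fun c => by simp) ?_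
    intro e e' h
    refine MulEquiv.ext fun c => ?_
    by_cases hc : c = 1
    · rw [hc, map_one, map_one]
    · exact congrArg Subtype.val (Equiv.ext_iff.mp h ⟨c, hc⟩)
  haveI := Fintype.ofFinite X
  have h2 : Fintype.card {c : X // c ≠ 1} ≤ 3 := by
    rw [Fintype.card_subtype_compl, Fintype.card_subtype_eq]
    rw [Nat.card_eq_fintype_card] at hX
    omega
  have h3 : Nat.card φ.range ≤ 6 := by
    refine (Finite.card_subtype_le _).trans (h1.trans ?_)
    rw [Nat.card_eq_fintype_card, Fintype.card_perm]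
    exact (Nat.factorial_le h2).trans le_rfl
  have hR : IsPGroup 3 φ.range := hB.of_surjective φ.rangeRestrict φ.rangeRestrict_surjective
  obtain ⟨j, hj⟩ := IsPGroup.iff_card.mp hR
  have hcy : IsCyclic φ.range := by
    rcases Nat.lt_or_ge j 2 with hj2 | hj2
    · interval_cases j
      · haveI : Subsingleton φ.range := (Nat.card_eq_one_iff_unique.mp (by simpa using hj)).1
        infer_instance
      · exact isCyclic_of_prime_card (p := 3) (by simpa using hj)
    · have := Nat.pow_le_pow_right (show 0 < 3 by norm_num) hj2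
      omega
  have hc : IsMulCommutative φ.range := hcy.isMulCommutative
  exact congrArg Subtype.val (hc.is_comm.comm ⟨φ x, ⟨x, rfl⟩⟩ ⟨φ y, ⟨y, rfl⟩⟩)

/-- The commutator of `B` acts trivially when each of its elements fixes a quarter. -/
theorem action_eq_one {q : ℕ} [Fact q.Prime] (hq3 : q ≠ 3) (hW : IsPGroup q W) (hB : IsPGroup 3 B)
    (φ : B →* MulAut W) (h3 : ∀ a ∈ commutator B, φ a ^ 3 = 1)
    (hcomm : ∀ a ∈ commutator B, ∀ a' ∈ commutator B, a * a' = a' * a)
    (hle : ∀ a ∈ commutator B, Nat.card W ≤ 4 * Nat.card (fixSub (φ a))) :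
    ∀ a ∈ commutator B, φ a = 1 := by
  intro a ha
  by_contra hne
  set C := fixSub (φ a) with hC
  have hidx : ∀ {e : B}, e ∈ commutator B → (fixSub (φ e)).index ≤ 4 := by
    intro e he
    have h1 := hle e he
    rw [← Subgroup.card_mul_index (fixSub (φ e)), mul_comm] at h1
    exact Nat.le_of_mul_le_mul_right h1 Nat.card_pos
  have hCidx : 3 ≤ C.index := by
    have h1 : C.index ≠ 1 := fun h => hne (MulEquiv.ext fun w => by
      have hw : w ∈ C := by rw [Subgroup.index_eq_one.mp h]; trivial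
      exact hw)
    have h2 : C.index ≠ 2 := index_fixSub_ne_two hq3 hW (h3 a ha)
    have h0 : C.index ≠ 0 := Subgroup.index_ne_zero_of_finite
    omega
  have haC : ∀ w, w⁻¹ * φ a w ∈ C → w ∈ C := fun w hw => fixed_of_inv_mul hq3 hW (h3 a ha) hw
  -- every conjugate fixes the same subgroup
  have hconj : ∀ x : B, ∀ c ∈ C, φ (x * a * x⁻¹) c = c := by
    intro x
    by_contra hc
    push Not at hc
    obtain ⟨c₀, hc₀, hc₀'⟩ := hc
    set a' := x * a * x⁻¹ with ha'
    have ha'A : a' ∈ commutator B := (inferInstance : (commutator B).Normal).conj_mem a ha x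
    have hC' : fixSub (φ a') = C.map (φ x).toMonoidHom := by
      ext w
      rw [Subgroup.mem_map_equiv, hC, mem_fixSub, mem_fixSub, ha', map_mul, map_mul, map_inv,
        MulAut.mul_apply, MulAut.mul_apply]
      exact ⟨fun h => (φ x).injective (by rw [MulEquiv.apply_symm_apply]; exact h),
        fun h => by
          show φ x (φ a ((φ x).symm w)) = w
          rw [h, MulEquiv.apply_symm_apply]⟩
    have hcom : ∀ w, φ a (φ a' w) = φ a' (φ a w) := fun w => by
      rw [← MulAut.mul_apply, ← MulAut.mul_apply, ← map_mul, ← map_mul, hcomm a ha a' ha'A]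
    have hinv : ∀ w ∈ C, φ a' w ∈ C := fun w hw => by
      rw [hC, mem_fixSub, hcom, mem_fixSub.mp hw]
    by_cases htriv : ∀ w, w⁻¹ * φ a' w ∈ C
    · -- the product fixes too little
      have he : a * a' ∈ commutator B := mul_mem ha ha'A
      have hfix : fixSub (φ (a * a')) ≤ C ⊓ fixSub (φ a') := by
        intro w hw
        rw [mem_fixSub, map_mul, MulAut.mul_apply] at hw
        have hwC : w ∈ C := by
          refine haC w ?_
          have h1 : φ a (w⁻¹ * φ a' w) = w⁻¹ * φ a' w := htriv w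
          rw [map_mul, hw, map_inv] at h1
          have h2 : (φ a w)⁻¹ * w * (φ a' w)⁻¹ * w = 1 := by
            rw [h1]
            simp [mul_assoc, mul_comm]
          have h3 : w⁻¹ * φ a w = (w⁻¹ * φ a' w)⁻¹ := by
            rw [eq_inv_iff_mul_eq_one]
            calc w⁻¹ * φ a w * (w⁻¹ * φ a' w)
                = ((φ a w)⁻¹ * w * (φ a' w)⁻¹ * w)⁻¹ := by
                  simp [mul_comm, mul_left_comm]
              _ = 1 := by rw [h2, inv_one]
          rw [h3]
          exact inv_mem (htriv w)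
        refine ⟨hwC, ?_⟩
        rw [hcom, show φ a w = w from hwC] at hw
        exact hw
      have hlt : C ⊓ fixSub (φ a') < C := lt_of_le_of_ne inf_le_left fun h => hc₀' (by
        rw [← h] at hc₀
        exact hc₀.2)
      have h2 : 2 ≤ (C ⊓ fixSub (φ a')).relIndex C := by
        have h0 : (C ⊓ fixSub (φ a')).relIndex C ≠ 0 := Subgroup.index_ne_zero_of_finite
        have h1 : (C ⊓ fixSub (φ a')).relIndex C ≠ 1 := fun h =>
          hlt.not_ge (Subgroup.relIndex_eq_one.mp h)
        omega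
      have h4 := Nat.le_of_dvd (Nat.pos_of_ne_zero Subgroup.index_ne_zero_of_finite)
        (Subgroup.index_dvd_of_le hfix)
      rw [← Subgroup.relIndex_mul_index (inf_le_left : C ⊓ fixSub (φ a') ≤ C)] at h4
      have := hidx he
      have : 6 ≤ (C ⊓ fixSub (φ a')).relIndex C * C.index := Nat.mul_le_mul h2 hCidx
      omega
    · -- the quotient has five elements
      push Not at htriv
      obtain ⟨w, hw⟩ := htriv
      have hle' : fixSub (φ a') ≤ C := by
        intro c hc
        by_contra hcC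
        have hq : Nat.card (W ⧸ C) ≤ 4 := by
          rw [← Subgroup.index_eq_card]; exact hidx ha
        let g : W ⧸ C →* W ⧸ C := QuotientGroup.map C C (φ a').toMonoidHom fun w hw => hinv w hw
        have hg3 : ∀ z, g (g (g z)) = z := fun z => by
          induction z using QuotientGroup.induction_on with
          | H u =>
            show ((φ a' (φ a' (φ a' u)) : W) : W ⧸ C) = u
            rw [← MulAut.mul_apply, ← MulAut.mul_apply, ← pow_two, ← pow_succ, h3 a' ha'A]
            rfl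
        have hgw : g (w : W ⧸ C) ≠ (w : W ⧸ C) := fun h => hw (QuotientGroup.eq.mp h.symm)
        have hgc : g (c : W ⧸ C) = (c : W ⧸ C) := congrArg _ (mem_fixSub.mp hc)
        have hc1 : (c : W ⧸ C) ≠ 1 := fun h => hcC ((QuotientGroup.eq_one_iff c).mp h)
        let z : Fin 5 → W ⧸ C := ![1, c, w, g w, g (g w)]
        have hz : Function.Injective z := by
          have hg1 : g (1 : W ⧸ C) = 1 := map_one g
          have hgi : Function.Injective g := fun u v h => by rw [← hg3 u, ← hg3 v, h]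
          have n1 : (1 : W ⧸ C) ≠ (w : W ⧸ C) := fun h => hgw (by rw [← h, hg1])
          have n2 : (c : W ⧸ C) ≠ (w : W ⧸ C) := fun h => hgw (by rw [← h, hgc])
          have n3 : (1 : W ⧸ C) ≠ g w := fun h => n1 (hgi (hg1.trans h))
          have n4 : (c : W ⧸ C) ≠ g w := fun h => n2 (hgi (hgc.trans h))
          have n5 : (1 : W ⧸ C) ≠ g (g w) := fun h => n3 (hgi (hg1.trans h))
          have n6 : (c : W ⧸ C) ≠ g (g w) := fun h => n4 (hgi (hgc.trans h))
          have n7 : g (g w) ≠ (w : W ⧸ C) := fun h => hgw (by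
            have := congrArg g h
            rw [hg3] at this
            exact this.symm)
          have n8 : g (g w) ≠ g w := fun h => hgw (hgi h)
          intro i j h
          fin_cases i <;> fin_cases j <;>
            first | rfl | exact absurd h hc1.symm | exact absurd h hc1 | exact absurd h n1 |
              exact absurd h n1.symm | exact absurd h n2 | exact absurd h n2.symm |
              exact absurd h n3 | exact absurd h n3.symm | exact absurd h n4 |
              exact absurd h n4.symm | exact absurd h n5 | exact absurd h n5.symm |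
              exact absurd h n6 | exact absurd h n6.symm | exact absurd h hgw |
              exact absurd h hgw.symm | exact absurd h n7 | exact absurd h n7.symm |
              exact absurd h n8 | exact absurd h n8.symm
        have := Nat.card_le_card_of_injective z hz
        rw [Nat.card_fin] at this
        omega
      have heq : fixSub (φ a') = C := Subgroup.eq_of_le_of_card_ge hle'
        (by rw [hC', Subgroup.card_map_of_injective (φ x).injective])
      exact hc₀' (by rw [← heq] at hc₀; exact hc₀)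
  -- so `B` acts on the small quotient
  have hCx : ∀ x : B, ∀ c ∈ C, φ x c ∈ C := by
    intro x c hc
    have := hconj x⁻¹ c hc
    rw [inv_inv, map_mul, map_mul, map_inv, MulAut.mul_apply, MulAut.mul_apply] at this
    rw [hC, mem_fixSub]
    exact (φ x)⁻¹.injective (this.trans ((φ x).symm_apply_apply c).symm)
  have hmap : ∀ x : B, C.map (φ x : W →* W) = C := fun x =>
    Subgroup.eq_of_le_of_card_ge (by rintro _ ⟨c, hc, rfl⟩; exact hCx x c hc)
      (by rw [Subgroup.card_map_of_injective (φ x).injective])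
  let φ' : B →* MulAut (W ⧸ C) :=
    { toFun := fun x => QuotientGroup.congr C C (φ x) (hmap x)
      map_one' := MulEquiv.ext fun z => by
        induction z using QuotientGroup.induction_on with
        | H u => show ((φ 1 u : W) : W ⧸ C) = u; rw [map_one]; rfl
      map_mul' := fun x y => MulEquiv.ext fun z => by
        induction z using QuotientGroup.induction_on with
        | H u => show ((φ (x * y) u : W) : W ⧸ C) = ((φ x (φ y u) : W) : W ⧸ C)
                 rw [map_mul]; rfl }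
  have hq : Nat.card (W ⧸ C) ≤ 4 := by rw [← Subgroup.index_eq_card]; exact hidx ha
  have hker : commutator B ≤ φ'.ker := by
    rw [commutator_def, Subgroup.commutator_le]
    intro x _ y _
    have hcc : Commute (φ' x) (φ' y) := commute_mulAut_of_card_le hq φ' hB x y
    rw [MonoidHom.mem_ker, map_commutatorElement]
    exact commutatorElement_eq_one_iff_commute.mpr hcc
  refine hne (MulEquiv.ext fun w => ?_)
  refine haC w ?_
  have h := MulEquiv.ext_iff.mp (MonoidHom.mem_ker.mp (hker ha)) (w : W ⧸ C)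
  exact QuotientGroup.eq.mp h.symm

end Finish

section Core

variable {k : Type*} [Field k] [IsAlgClosed k] [CharP k 3] {Q : Type*} [Group Q] [Finite Q]
  {B : Type*} [Group B] [Finite B] {q : ℕ} [Fact q.Prime]

/-- Abelian image: the companion operators fix everything. -/
theorem fixed_of_comm {M : Type*} [AddCommGroup M] [Module k M] [FiniteDimensional k M]
    (hcard : (Nat.card Q : k) ≠ 0) (ρ : Q →* Module.End k M)
    (hcomm : ∀ u v, Commute (ρ u) (ρ v)) (δ : MulAut Q) (hδ : δ ^ 3 = 1) (X : Module.End k M)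
    (hX : ∀ u, X * ρ u = ρ (δ u) * X) (hX2 : (X - 1) ^ 2 = 0) : ∀ u, ρ (δ u) = ρ u := by
  intro u
  by_contra hne
  obtain ⟨μ, v, hv, hne'⟩ :=
    exists_eig_apply_ne ρ hcomm hcard (ρ (δ u) - ρ u) (sub_ne_zero.mpr hne)
  refine hne' ?_
  rcases eq_or_ne v 0 with rfl | hv0
  · rw [map_zero]
  have := char_fixed ρ hcard δ (j := 1) (by rw [pow_one, hδ]) X 1 hX (fun r => by rw [one_mul, mul_one])
    (by rw [one_mul, hX2]) μ v hv hv0
  rw [LinearMap.sub_apply, hv, hv, this, sub_self]

theorem sigma_conj {σ : B →* MulAut Q} (x : B) (a : B) (u : Q) :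
    σ x (u⁻¹ * σ a u) = (σ x u)⁻¹ * σ (x * a * x⁻¹) (σ x u) := by
  rw [map_mul, map_inv, map_mul σ, map_mul σ, MulAut.mul_apply, MulAut.mul_apply, map_inv σ,
    MulAut.inv_apply_self]

/-- The core statement on a `q`-group. -/
theorem core {M : Type*} [AddCommGroup M] [Module k M] [FiniteDimensional k M] (hq3 : q ≠ 3)
    (hQ : IsPGroup q Q) (hB : IsPGroup 3 B) (σ : B →* MulAut Q) (ρ : Q →* Module.End k M)
    (hρ : Function.Injective ρ) (Y : B →* Module.End k M)
    (hY : ∀ x u, Y x * ρ u = ρ (σ x u) * Y x)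
    (hq2 : ∀ a ∈ commutator B, (Y a - 1) ^ 2 = 0)
    (hc : ∀ a ∈ commutator B, ∀ x, (Y a - 1) * (Y x - 1) ^ 2 = 0)
    (hA : ∀ a ∈ commutator B, ∀ a' ∈ commutator B, a * a' = a' * a)
    (hmin : ∀ L : Subgroup Q, L ≠ ⊤ → (∀ x, ∀ u ∈ L, σ x u ∈ L) →
      ∀ a ∈ commutator B, ∀ u ∈ L, σ a u = u) :
    ∀ a ∈ commutator B, σ a = 1 := by
  classical
  haveI : Fact (Nat.Prime 3) := ⟨Nat.prime_three⟩
  by_contra hc'
  push Not at hc'
  obtain ⟨a₀, ha₀, hσa₀⟩ := hc'
  have hnormA : (commutator B).Normal := inferInstance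
  have hY3 : ∀ a ∈ commutator B, Y a ^ 3 = 1 := fun a ha => by
    have h := HallHigmanB.sub_one_pow_char_pow (p := 3) (Y a) 1
    rw [pow_one, pow_succ, hq2 a ha, zero_mul] at h
    exact sub_eq_zero.mp h.symm
  have hσ3 : ∀ a ∈ commutator B, σ a ^ 3 = 1 := fun a ha => MulEquiv.ext fun u => hρ (by
    have h := OddPower.pow_semiconj (hY a) 3 u
    rw [hY3 a ha, one_mul, mul_one] at h
    exact h.symm)
  have hcardQ : ∀ {Z : Type _} [Group Z] [Finite Z], IsPGroup q Z → (Nat.card Z : k) ≠ 0 :=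
    fun hZ => HallHigmanB.natCast_card_ne_zero (p := 3) hq3 hZ
  obtain ⟨m, hm⟩ := IsPGroup.iff_card.mp hB
  have hσpow : ∀ x, σ x ^ 3 ^ m = 1 := fun x => by
    rw [← map_pow, ← hm, pow_card_eq_one', map_one]
  have hfix : ∀ a ∈ commutator B, ∀ u, σ a (u⁻¹ * σ a u) = u⁻¹ * σ a u → σ a u = u := by
    intro a ha u h
    have h3 := OddPower.pow_apply_mul (α := σ a) (mul_inv_cancel_left u (σ a u)).symm h 3
    rw [hσ3 a ha, MulAut.one_apply, left_eq_mul] at h3
    exact (inv_mul_eq_one.mp (OddPower.eq_one_of_pow_eq_one Nat.prime_three hq3 hQ h3)).symm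
  have hchar : ∀ (K : Subgroup Q) [K.Characteristic], ∀ x, ∀ u ∈ K, σ x u ∈ K := by
    intro K hK x u hu
    have h := hK.fixed (σ x)
    rw [← h] at hu
    exact hu
  haveI hQnil : Group.IsNilpotent Q := hQ.isNilpotent
  haveI : Nontrivial Q := by
    by_contra hnt
    rw [not_nontrivial_iff_subsingleton] at hnt
    exact hσa₀ (MulEquiv.ext fun u => Subsingleton.elim _ _)
  set S₀ : Set Q := {y | ∃ a ∈ commutator B, ∃ u, y = u⁻¹ * σ a u} with hS₀
  have hgen : Subgroup.closure S₀ = ⊤ := by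
    by_contra hne
    refine hσa₀ (MulEquiv.ext fun u => hfix a₀ ha₀ u ?_)
    refine hmin _ hne (fun x y hy => ?_) a₀ ha₀ _ (Subgroup.subset_closure ⟨a₀, ha₀, u, rfl⟩)
    refine ((Subgroup.closure_le ((Subgroup.closure S₀).comap (σ x).toMonoidHom)).mpr ?_) hy
    rintro _ ⟨a, ha, u, rfl⟩
    exact Subgroup.subset_closure ⟨_, hnormA.conj_mem a ha x, σ x u,
      sigma_conj x a u⟩
  have hDfix : ∀ a ∈ commutator B, ∀ c ∈ commutator Q, σ a c = c :=
    hmin _ (Group.IsSolvable.commutator_lt_top_of_nontrivial Q).ne (hchar _)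
  have hcentral : ∀ c : Q, (∀ a ∈ commutator B, σ a c = c) → c ∈ Subgroup.center Q := by
    intro c hc
    have hle : Subgroup.closure S₀ ≤ Subgroup.centralizer ({c} : Set Q) := by
      rw [Subgroup.closure_le]
      rintro _ ⟨a, ha, u, rfl⟩
      have hd : c * u * c⁻¹ * u⁻¹ ∈ commutator Q :=
        Subgroup.commutator_mem_commutator (Subgroup.mem_top c) (Subgroup.mem_top u)
      have h1 := hDfix a ha _ hd
      rw [map_mul, map_mul, map_mul, map_inv, map_inv, hc a ha] at h1
      have h2 : c * σ a u * c⁻¹ = c * u * c⁻¹ * u⁻¹ * σ a u := by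
        rw [← h1, inv_mul_cancel_right]
      rw [SetLike.mem_coe, Subgroup.mem_centralizer_singleton_iff]
      calc u⁻¹ * σ a u * c = (c * u * c⁻¹)⁻¹ * (c * σ a u * c⁻¹) * c := by
            rw [h2]
            group
        _ = c * (u⁻¹ * σ a u) := by group
    rw [Subgroup.mem_center_iff]
    intro g
    exact Subgroup.mem_centralizer_singleton_iff.mp (hle (hgen ▸ Subgroup.mem_top g))
  set Z := Subgroup.center Q with hZdef
  have hcomZ : ∀ u v : Q, u * v * u⁻¹ * v⁻¹ ∈ Z := fun u v => hcentral _ fun a ha =>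
    hDfix a ha _ (Subgroup.commutator_mem_commutator (Subgroup.mem_top u) (Subgroup.mem_top v))
  have hYinj : ∀ (a : B) (w : M), Y a w = 0 → w = 0 := fun a w hw => by
    rw [← Module.End.one_apply (R := k) w, ← map_one Y, ← inv_mul_cancel a, map_mul,
      Module.End.mul_apply, hw, map_zero]
  have hρcancel : ∀ (a : B) (u : Q), σ a u ≠ u → ρ (σ a u) - ρ u ≠ 0 := fun a u h h' =>
    h (hρ (sub_eq_zero.mp h'))
  obtain ⟨u₀, hu₀⟩ : ∃ u, σ a₀ u ≠ u := by
    by_contra h
    push Not at h
    exact hσa₀ (MulEquiv.ext h)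
  -- the centre is proper
  have hZtop : Z ≠ ⊤ := by
    intro hZ
    refine hρcancel a₀ u₀ hu₀ (sub_eq_zero.mpr ?_)
    refine fixed_of_comm (hcardQ hQ) ρ (fun u v => ?_) (σ a₀) (hσ3 a₀ ha₀) (Y a₀) (hY a₀)
      (hq2 a₀ ha₀) u₀
    rw [Commute, SemiconjBy, ← map_mul, ← map_mul]
    exact congrArg ρ (Subgroup.mem_center_iff.mp (hZ.ge (Subgroup.mem_top v)) u)
  have hZfix : ∀ a ∈ commutator B, ∀ z ∈ Z, σ a z = z := hmin Z hZtop (hchar Z)
  -- a character of the centre
  set ρZ := ρ.comp Z.subtype with hρZ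
  obtain ⟨μ, v₁, hv₁, hv₁ne⟩ := exists_eig_apply_ne ρZ
    (fun a b => by
      rw [Commute, SemiconjBy, ← map_mul, ← map_mul]
      exact congrArg ρZ (Subtype.ext (Subgroup.mem_center_iff.mp b.2 a)))
    (hcardQ (hQ.to_subgroup Z)) _ (hρcancel a₀ u₀ hu₀)
  have hZcomm : ∀ (z : Z) (u : Q), ρ z * ρ u = ρ u * ρ z := fun z u => by
    rw [← map_mul, ← map_mul]
    exact congrArg ρ (Subgroup.mem_center_iff.mp z.2 u).symm
  set E₁ := OddPower.eigSub ρZ μ
  have hE₁Q : ∀ u, ∀ v ∈ E₁, ρ u v ∈ E₁ := fun u v hv => OddPower.mem_eigSub.mpr fun z => by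
    show ρ z (ρ u v) = _
    rw [← Module.End.mul_apply, hZcomm, Module.End.mul_apply,
      show ρ z v = μ z • v from OddPower.mem_eigSub.mp hv z, map_smul]
  have hmove : ∃ w ∈ E₁, (Y a₀ - 1) w ≠ 0 := by
    by_contra h
    push Not at h
    refine hv₁ne ?_
    have hfixY : ∀ w ∈ E₁, Y a₀ w = w := fun w hw => by
      have := h w hw
      rwa [LinearMap.sub_apply, Module.End.one_apply, sub_eq_zero] at this
    have h1 := LinearMap.congr_fun (hY a₀ u₀) v₁
    rw [Module.End.mul_apply, Module.End.mul_apply, hfixY _ (hE₁Q _ _ (OddPower.mem_eigSub.mpr hv₁)),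
      hfixY _ (OddPower.mem_eigSub.mpr hv₁)] at h1
    rw [LinearMap.sub_apply, h1, sub_self]
  let σZ : ∀ x : B, MulAut Z := fun x => OddPower.subAut (σ x) Z (hchar Z x)
  have hμfix : ∀ (x : B) (z : Z), μ ⟨σ x z, hchar Z x z z.2⟩ = μ z := by
    intro x
    obtain ⟨w, hw, hw0⟩ := hmove
    refine char_fixed ρZ (hcardQ (hQ.to_subgroup Z)) (σZ x) (j := m) (MulEquiv.ext fun z =>
        Subtype.ext (by rw [OddPower.coe_subAut_pow, hσpow]; rfl)) (Y x) (Y a₀ - 1)
      (fun r => hY x r) (fun r => ?_) (hc a₀ ha₀ x) μ w (OddPower.mem_eigSub.mp hw) hw0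
    show (Y a₀ - 1) * ρ r = ρ r * (Y a₀ - 1)
    rw [sub_mul, mul_sub, hY, hZfix a₀ ha₀ r r.2, one_mul, mul_one]
  have hE₁B : ∀ x, ∀ v ∈ E₁, Y x v ∈ E₁ := fun x v hv => OddPower.mem_eigSub.mpr fun z => by
    obtain ⟨z', rfl⟩ := (σZ x).surjective z
    show ρ (σ x z') (Y x v) = μ ⟨σ x z', _⟩ • Y x v
    rw [← Module.End.mul_apply, ← hY, Module.End.mul_apply,
      show ρ z' v = μ z' • v from OddPower.mem_eigSub.mp hv z', map_smul, hμfix x z']
  -- the radical
  let cz : Q → Q → Z := fun u v => ⟨u * v * u⁻¹ * v⁻¹, hcomZ u v⟩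
  have hρE : ∀ u v, ∀ w ∈ E₁, ρ u (ρ v w) = μ (cz u v) • ρ v (ρ u w) := fun u v w hw => by
    have h1 : u * v = (cz u v : Q) * (v * u) := by simp [cz, mul_assoc]
    rw [← Module.End.mul_apply, ← map_mul, h1, map_mul ρ (cz u v : Q), map_mul ρ v u,
      Module.End.mul_apply, Module.End.mul_apply]
    exact OddPower.mem_eigSub.mp (hE₁Q v _ (hE₁Q u _ hw)) (cz u v)
  have hcmul : ∀ u v w, cz u (v * w) = cz u v * cz u w := fun u v w =>
    Subtype.ext (OddPower.com_mul hcomZ u v w)
  let R : Subgroup Q :=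
    { carrier := {y | ∀ u, μ (cz u y) = 1}
      one_mem' := fun u => by
        rw [show cz u 1 = 1 from Subtype.ext (by simp [cz]), map_one]
      mul_mem' := fun {a b} ha hb u => by rw [hcmul, map_mul, ha u, hb u, one_mul]
      inv_mem' := fun {a} ha u => by
        have h := hcmul u a a⁻¹
        rw [mul_inv_cancel, show cz u 1 = 1 from Subtype.ext (by simp [cz])] at h
        have h' := congrArg μ h
        rwa [map_one, map_mul, ha u, one_mul, eq_comm] at h' }
  have hZR : Z ≤ R := fun z hz u => by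
    rw [show cz u z = 1 from Subtype.ext (by
      show u * z * u⁻¹ * z⁻¹ = 1
      rw [Subgroup.mem_center_iff.mp hz u, mul_inv_cancel_right, mul_inv_cancel]), map_one]
  haveI hRn : R.Normal := ⟨fun r hr g => by
    have h1 : g * r * g⁻¹ = g * r * g⁻¹ * r⁻¹ * r := by group
    rw [h1]
    exact mul_mem (hZR (hcomZ g r)) hr⟩
  have hRinv : ∀ x, ∀ r ∈ R, σ x r ∈ R := by
    intro x r hr u
    obtain ⟨u', rfl⟩ := (σ x).surjective u
    have h1 : cz (σ x u') (σ x r) = ⟨σ x (cz u' r : Q), hchar Z x _ (cz u' r).2⟩ :=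
      Subtype.ext (by simp [cz])
    rw [h1, hμfix x (cz u' r), hr]
  set ρ₁ := OddPower.resRep ρ E₁ hE₁Q
  let Y₁ : B →* Module.End k E₁ :=
    { toFun := fun x => (Y x).restrict (hE₁B x)
      map_one' := LinearMap.ext fun u => Subtype.ext (by simp [LinearMap.restrict_apply])
      map_mul' := fun a b => LinearMap.ext fun u => Subtype.ext (by
        simp [LinearMap.restrict_apply]) }
  have hY₁ : ∀ x u, Y₁ x * ρ₁ u = ρ₁ (σ x u) * Y₁ x := fun x u =>
    LinearMap.ext fun v => Subtype.ext (LinearMap.congr_fun (hY x u) (v : M))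
  have hq2₁ : ∀ a ∈ commutator B, (Y₁ a - 1) ^ 2 = 0 := fun a ha =>
    LinearMap.ext fun v => Subtype.ext (by
      have h := LinearMap.congr_fun (hq2 a ha) (v : M)
      rw [pow_two] at h ⊢
      exact h)
  have hT₁ : ρ₁ (σ a₀ u₀) - ρ₁ u₀ ≠ 0 := fun h => hv₁ne
    (congrArg Subtype.val (LinearMap.congr_fun h ⟨v₁, OddPower.mem_eigSub.mpr hv₁⟩))
  by_cases hRtop : R = ⊤
  · refine hT₁ (sub_eq_zero.mpr ?_)
    refine fixed_of_comm (hcardQ hQ) ρ₁ (fun u v => LinearMap.ext fun w => Subtype.ext ?_) (σ a₀)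
      (hσ3 a₀ ha₀) (Y₁ a₀) (hY₁ a₀) (hq2₁ a₀ ha₀) u₀
    show ρ u (ρ v (w : M)) = ρ v (ρ u (w : M))
    have : μ (cz u v) = 1 := (hRtop ▸ Subgroup.mem_top v : v ∈ R) u
    rw [hρE u v w w.2, this, one_smul]
  have hRfix : ∀ a ∈ commutator B, ∀ r ∈ R, σ a r = r := hmin R hRtop hRinv
  -- a character of the radical
  set ρR := ρ₁.comp R.subtype with hρR
  have hRcomm : ∀ (r : R) (u : Q), ρ₁ r * ρ₁ u = ρ₁ u * ρ₁ r := fun r u =>
    LinearMap.ext fun w => Subtype.ext (by
      show ρ r (ρ u (w : M)) = ρ u (ρ r (w : M))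
      rw [hρE u r w w.2, r.2 u, one_smul])
  obtain ⟨ν, v₂, hv₂, hv₂ne⟩ := exists_eig_apply_ne ρR
    (fun a b => hRcomm a b) (hcardQ (hQ.to_subgroup R)) _ hT₁
  set E₂ := OddPower.eigSub ρR ν
  have hv₂E : v₂ ∈ E₂ := OddPower.mem_eigSub.mpr hv₂
  have hE₂Q : ∀ u, ∀ v ∈ E₂, ρ₁ u v ∈ E₂ := fun u v hv => OddPower.mem_eigSub.mpr fun r => by
    show ρ₁ r (ρ₁ u v) = _
    rw [← Module.End.mul_apply, hRcomm, Module.End.mul_apply,
      show ρ₁ r v = ν r • v from OddPower.mem_eigSub.mp hv r, map_smul]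
  have hmove₂ : ∃ w ∈ E₂, (Y₁ a₀ - 1) w ≠ 0 := by
    by_contra h
    push Not at h
    refine hv₂ne ?_
    have hfixY : ∀ w ∈ E₂, Y₁ a₀ w = w := fun w hw => by
      have := h w hw
      rwa [LinearMap.sub_apply, Module.End.one_apply, sub_eq_zero] at this
    have h1 := LinearMap.congr_fun (hY₁ a₀ u₀) v₂
    rw [Module.End.mul_apply, Module.End.mul_apply, hfixY _ (hE₂Q _ _ hv₂E), hfixY _ hv₂E] at h1
    rw [LinearMap.sub_apply, h1, sub_self]
  let σR : ∀ x : B, MulAut R := fun x => OddPower.subAut (σ x) R (hRinv x)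
  have hνfix : ∀ (x : B) (r : R), ν ⟨σ x r, hRinv x r r.2⟩ = ν r := by
    intro x
    obtain ⟨w, hw, hw0⟩ := hmove₂
    refine char_fixed ρR (hcardQ (hQ.to_subgroup R)) (σR x) (j := m) (MulEquiv.ext fun z =>
        Subtype.ext (by rw [OddPower.coe_subAut_pow, hσpow]; rfl)) (Y₁ x) (Y₁ a₀ - 1)
      (fun r => hY₁ x r) (fun r => ?_) (LinearMap.ext fun v => Subtype.ext (by
        have h := LinearMap.congr_fun (hc a₀ ha₀ x) (v : M)
        rw [pow_two] at h ⊢
        exact h)) ν w (OddPower.mem_eigSub.mp hw) hw0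
    show (Y₁ a₀ - 1) * ρ₁ r = ρ₁ r * (Y₁ a₀ - 1)
    rw [sub_mul, mul_sub, hY₁, hRfix a₀ ha₀ r r.2, one_mul, mul_one]
  haveI : Nontrivial E₂ := ⟨⟨v₂, hv₂E⟩, 0, fun h => hv₂ne (by
    rw [show v₂ = 0 from congrArg Subtype.val h, map_zero])⟩
  set ρ₂ := OddPower.resRep ρ₁ E₂ hE₂Q
  have hρ₂ : Extraspecial.IsScalar ν ρ₂ := fun r => LinearMap.ext fun v =>
    Subtype.ext (OddPower.mem_eigSub.mp v.2 r)
  have hν0 : ∀ z : Z, ν ⟨z, hZR z.2⟩ = μ z := fun z => by
    have hne : v₂ ≠ 0 := fun h => hv₂ne (by rw [h, map_zero])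
    refine smul_left_injective k hne ?_
    show ν ⟨z, hZR z.2⟩ • v₂ = μ z • v₂
    rw [← hv₂ ⟨z, hZR z.2⟩]
    exact Subtype.ext (OddPower.mem_eigSub.mp v₂.2 z)
  have S : Extraspecial.Setup R 1 ν 1 :=
    { comm := fun u v => hZR (hcomZ u v)
      nondeg := fun y hy => by
        obtain ⟨u, hu⟩ : ∃ u, μ (cz u y) ≠ 1 := not_forall.mp hy
        exact ⟨u, fun h => hu ((hν0 (cz u y)).symm.trans h)⟩
      ne_top := hRtop
      inv := fun r hr => hr
      fix := fun r => rfl
      pow := one_pow 1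
      semireg := fun i h1 h2 => absurd h2 (by omega)
      cast_card := hcardQ hQ }
  -- the action on the quotient
  letI : CommGroup (Q ⧸ R) :=
    { (inferInstance : Group (Q ⧸ R)) with
      mul_comm := fun a b => by
        induction a using QuotientGroup.induction_on with
        | H u =>
          induction b using QuotientGroup.induction_on with
          | H v =>
            rw [← QuotientGroup.mk_mul, ← QuotientGroup.mk_mul, QuotientGroup.eq]
            have := hZR (hcomZ v⁻¹ u⁻¹)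
            simpa [mul_assoc] using this }
  have hRmap : ∀ x, R.map (σ x : Q →* Q) = R := fun x =>
    Subgroup.eq_of_le_of_card_ge (by rintro _ ⟨c, hc, rfl⟩; exact hRinv x c hc)
      (by rw [Subgroup.card_map_of_injective (σ x).injective])
  let φ : B →* MulAut (Q ⧸ R) :=
    { toFun := fun x => QuotientGroup.congr R R (σ x) (hRmap x)
      map_one' := MulEquiv.ext fun z => by
        induction z using QuotientGroup.induction_on with
        | H u => show ((σ 1 u : Q) : Q ⧸ R) = u; rw [map_one]; rfl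
      map_mul' := fun x y => MulEquiv.ext fun z => by
        induction z using QuotientGroup.induction_on with
        | H u => show ((σ (x * y) u : Q) : Q ⧸ R) = ((σ x (σ y u) : Q) : Q ⧸ R)
                 rw [map_mul]; rfl }
  have hφ : ∀ (x : B) (u : Q), φ x (u : Q ⧸ R) = ((σ x u : Q) : Q ⧸ R) := fun x u => rfl
  have hφ3 : ∀ a ∈ commutator B, φ a ^ 3 = 1 := by
    intro a ha
    rw [← map_pow]
    refine MulEquiv.ext fun z => ?_
    induction z using QuotientGroup.induction_on with
    | H u => rw [hφ, map_pow, hσ3 a ha]; rfl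
  have hfin := action_eq_one hq3 (hQ.to_quotient R) hB φ hφ3
    hA (fun a ha => by
      have hE₂a : ∀ v ∈ E₂, Y₁ a v ∈ E₂ := fun v hv => OddPower.mem_eigSub.mpr fun r => by
        show ρ₁ r (Y₁ a v) = _
        rw [← Module.End.mul_apply, show ρ₁ r * Y₁ a = Y₁ a * ρ₁ r by rw [hY₁, hRfix a ha r r.2],
          Module.End.mul_apply, show ρ₁ r v = ν r • v from OddPower.mem_eigSub.mp hv r, map_smul]
      refine (card_quotient_le S hρ₂ (σ a) (hRfix a ha) (hσ3 a ha) ((Y₁ a).restrict hE₂a)
        (fun u => LinearMap.ext fun v => Subtype.ext (LinearMap.congr_fun (hY₁ a u) (v : E₁)))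
        (LinearMap.ext fun v => Subtype.ext (by
          have h := LinearMap.congr_fun (hq2₁ a ha) (v : E₁)
          rw [pow_two] at h ⊢
          exact h))).trans (Nat.mul_le_mul le_rfl (le_of_eq (Nat.card_congr
            (Equiv.subtypeEquivRight fun c => ?_))))
      rw [mem_fixSub, ← hφ, QuotientGroup.out_eq']) a₀ ha₀
  refine hu₀ (hfix a₀ ha₀ u₀ (hRfix a₀ ha₀ _ ?_))
  exact QuotientGroup.eq.mp (by rw [← hφ, hfin]; rfl)

end Core

end Cfsg.Agent.Lib.PSolvable.Quadratic
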