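/-
For odd `p` the `p`-length is at most the derived length of a Sylow `p`-subgroup.
-/
import Mathlib
import Cfsg.Agent.Lib.PSolvable.QuadraticThree
import Cfsg.Agent.Lib.PSolvable.PLengthExponent
import Cfsg.Agent.Lib.PSolvable.PLengthMore

set_option autoImplicit false
set_option linter.unusedSectionVars false
set_option linter.style.haveILetI false

namespace Cfsg.Agent.Lib.PSolvable

open Module

universe u

/-- In characteristic three a commutator acting quadratically and cubically is trivial. -/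
theorem quadratic_commutator_trivial {F : Type*} [Field F] [CharP F 3] {V : Type*}
    [AddCommGroup V] [Module F V] [FiniteDimensional F V] {H : Type*} [Group H] [Finite H]
    [Fact (Nat.Prime 3)] (hsol : Cfsg.IsPSolvable 3 H) (hO : Cfsg.pCore 3 H = ⊥)
    (f : H →* Module.End F V) (hf : Function.Injective f) (B : Subgroup H) (hB : IsPGroup 3 B)
    (hq : ∀ a ∈ commutator B, (f (a : H) - 1) ^ 2 = 0)
    (hc : ∀ a ∈ commutator B, ∀ x ∈ B, (f (a : H) - 1) * (f x - 1) ^ 2 = 0)
    (hA : ∀ a ∈ commutator B, ∀ a' ∈ commutator B, a * a' = a' * a) :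
    commutator B = ⊥ := by
  classical
  let b := Module.finBasis F V
  let k := AlgebraicClosure F
  haveI : CharP k 3 := charP_of_injective_algebraMap (algebraMap F k).injective 3
  let φ : Module.End F V →+* Module.End k (Fin (Module.finrank F V) → k) :=
    (Matrix.toLinAlgEquiv' (R := k)).toRingEquiv.toRingHom.comp
      ((algebraMap F k).mapMatrix.comp (LinearMap.toMatrixAlgEquiv b).toRingEquiv.toRingHom)
  have hφ : Function.Injective φ := fun P Q h =>
    (LinearMap.toMatrixAlgEquiv b).injective (Matrix.map_injective (algebraMap F k).injective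
      ((Matrix.toLinAlgEquiv' (R := k)).injective h))
  set g : H →* Module.End k (Fin (Module.finrank F V) → k) := φ.toMonoidHom.comp f with hg
  have hginj : Function.Injective g := hφ.comp hf
  rw [eq_bot_iff]
  intro a₀ ha₀
  by_contra hne
  rw [Subgroup.mem_bot] at hne
  set K := Cfsg.pPrimeCore 3 H with hK
  have hKp : (Nat.card K).Coprime 3 := card_pPrimeCore_coprime
  have hBK : B ≤ Subgroup.normalizer (K : Set H) := by
    rw [Subgroup.normalizer_eq_top_iff.mpr inferInstance]
    exact le_top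
  have hcop : (Nat.card B).Coprime (Nat.card K) := by
    obtain ⟨m, hm⟩ := IsPGroup.iff_card.mp hB
    rw [hm]
    exact hKp.symm.pow_left m
  have hBs : Group.IsSolvable B := by
    haveI := hB.isNilpotent
    infer_instance
  obtain ⟨q, hq', hqd, P, hPK, hPq, hPB, hPy⟩ : ∃ q, q.Prime ∧ q ∣ Nat.card K ∧ ∃ P : Subgroup H,
      P ≤ K ∧ IsPGroup q P ∧ B ≤ Subgroup.normalizer (P : Set H) ∧
      ¬ P ≤ Subgroup.centralizer ({(a₀ : H)} : Set H) := by
    by_contra hc'
    push Not at hc'
    have hKC : K ≤ Subgroup.centralizer ({(a₀ : H)} : Set H) := by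
      set C := (Subgroup.centralizer ({(a₀ : H)} : Set H)).subgroupOf K
      have h1 : C.index = 1 := by
        refine Nat.eq_one_iff_not_exists_prime_dvd.mpr fun q hq hd => ?_
        haveI := Fact.mk hq
        obtain ⟨P, hPK, hPq, hPi, hPB⟩ :=
          Cores.InvariantSylow.exists_invariant hBK hcop (Or.inl hBs) q
        have hle := hc' q hq (hd.trans (Subgroup.index_dvd_card C)) P hPK hPq hPB
        exact hPi (hd.trans (Subgroup.relIndex_dvd_of_le_left K hle))
      rw [Subgroup.index_eq_one, Subgroup.subgroupOf_eq_top] at h1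
      exact h1
    have ha₀K : (a₀ : H) ∈ K := PLocal.centralizer_pPrimeCore_le hsol hO (by
      rw [Subgroup.mem_centralizer_iff]
      exact fun g hg => Subgroup.mem_centralizer_singleton_iff.mp (hKC hg))
    obtain ⟨j, hj⟩ := hB a₀
    have h3 := Nat.dvd_gcd (orderOf_dvd_of_pow_eq_one (congrArg Subtype.val hj))
      (K.orderOf_dvd_natCard ha₀K)
    have hpow : ((a₀ ^ 3 ^ j : B) : H) = (a₀ : H) ^ 3 ^ j := rfl
    rw [Nat.Coprime.gcd_eq_one (hKp.symm.pow_left j), Nat.dvd_one] at h3
    exact hne (Subtype.ext (orderOf_eq_one_iff.mp h3))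
  haveI := Fact.mk hq'
  have hq3 : q ≠ 3 := fun e =>
    (by norm_num : (3 : ℕ) ≠ 1) (Nat.eq_one_of_dvd_coprimes hKp (e ▸ hqd) dvd_rfl)
  set A := commutator B
  obtain ⟨Q, ⟨hQP, hQB, hQA⟩, hQmin⟩ := exists_minimal_of_wellFoundedLT
    (fun Q : Subgroup H => Q ≤ P ∧ B ≤ Subgroup.normalizer (Q : Set H) ∧
      ¬ Q ≤ Subgroup.centralizer ((A.map B.subtype : Subgroup H) : Set H))
    ⟨P, le_rfl, hPB, fun h => hPy (h.trans (Subgroup.centralizer_le
      (Set.singleton_subset_iff.mpr ⟨a₀, ha₀, rfl⟩)))⟩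
  let σ : B →* MulAut Q := (Subgroup.normalizerMonoidHom Q).comp (Subgroup.inclusion hQB)
  have hσ : ∀ (x : B) (u : Q), ((σ x u : Q) : H) = x * u * (x : H)⁻¹ := fun x u => rfl
  have hfix : ∀ (a : B) (u : Q), σ a u = u ↔ (u : H) * a = a * u := fun a u => by
    rw [← Subtype.coe_inj, hσ, mul_inv_eq_iff_eq_mul]
    exact eq_comm
  have hρ : ∀ (x : B) (u : Q), g x * g u = g (σ x u : Q) * g x := fun x u => by
    rw [← map_mul, ← map_mul, hσ, inv_mul_cancel_right]
  have hfin := Quadratic.core (M := Fin (Module.finrank F V) → k) hq3 (hPq.to_le hQP) hB σ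
    (g.comp Q.subtype) (hginj.comp Q.subtype_injective) (g.comp B.subtype) hρ
    (fun a ha => by
      show (φ (f (a : H)) - 1) ^ 2 = 0
      rw [← map_one φ, ← map_sub, ← map_pow, hq a ha, map_zero])
    (fun a ha x => by
      show (φ (f (a : H)) - 1) * (φ (f (x : H)) - 1) ^ 2 = 0
      rw [← map_one φ, ← map_sub, ← map_sub, ← map_pow, ← map_mul, hc a ha x x.2, map_zero])
    hA (fun L hL hLinv a ha u hu => by
      by_contra hu'
      have hLQ : L.map Q.subtype ≤ Q := Subgroup.map_subtype_le L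
      have hle := hQmin (y := L.map Q.subtype) ⟨hLQ.trans hQP, ?_, fun h => hu' ?_⟩ hLQ
      · refine hL (eq_top_iff.mpr fun w _ => ?_)
        obtain ⟨w', hw', hww⟩ := hle w.2
        rwa [← Subtype.ext hww]
      · intro x hx
        haveI : Finite ((L.map Q.subtype : Subgroup H) : Set H) := Set.toFinite _
        refine Subgroup.mem_normalizer_fintype ?_
        rintro _ ⟨w, hw, rfl⟩
        exact ⟨σ ⟨x, hx⟩ w, hLinv ⟨x, hx⟩ w hw, hσ ⟨x, hx⟩ w⟩
      · rw [hfix]
        exact (Subgroup.mem_centralizer_iff.mp (h (Subgroup.mem_map_of_mem _ hu)) a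
          ⟨a, ha, rfl⟩).symm)
  refine hQA fun u hu => Subgroup.mem_centralizer_iff.mpr ?_
  rintro _ ⟨a, ha, rfl⟩
  exact ((hfix a ⟨u, hu⟩).mp (by rw [hfin a ha]; rfl)).symm

variable {p : ℕ} [hp : Fact p.Prime] {G : Type u} [Group G] [Finite G]

theorem derivedSeries_normal_map (S : Subgroup G) (n : ℕ) {g x : G} (hg : g ∈ S)
    (hx : x ∈ (derivedSeries S n).map S.subtype) : g * x * g⁻¹ ∈ (derivedSeries S n).map S.subtype := by
  obtain ⟨y, hy, rfl⟩ := hx
  exact ⟨⟨g, hg⟩ * y * (⟨g, hg⟩ : S)⁻¹, (derivedSeries_normal S n).conj_mem y hy _, rfl⟩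

theorem commutator_mem_map (S : Subgroup G) (n : ℕ) {g x : G}
    (hg : g ∈ (derivedSeries S n).map S.subtype) (hx : x ∈ (derivedSeries S n).map S.subtype) :
    g * x * g⁻¹ * x⁻¹ ∈ (derivedSeries S (n + 1)).map S.subtype := by
  obtain ⟨g', hg', rfl⟩ := hg
  obtain ⟨x', hx', rfl⟩ := hx
  refine ⟨g' * x' * g'⁻¹ * x'⁻¹, ?_, rfl⟩
  rw [derivedSeries_succ]
  exact Subgroup.commutator_mem_commutator hg' hx'

/-- The last term of the derived series of a Sylow subgroup lies in the `p`-core. -/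
theorem derivedSeries_le_pCore (hp2 : p ≠ 2) (hsol : Cfsg.IsPSolvable p G)
    (h1 : Cfsg.pPrimeCore p G = ⊥) (S : Sylow p G) (d : ℕ)
    (hd : derivedSeries (S : Subgroup G) (d + 1) = ⊥) :
    (derivedSeries (S : Subgroup G) d).map (S : Subgroup G).subtype ≤ Cfsg.pCore p G := by
  set P := Cfsg.pCore p G
  set T : ℕ → Subgroup G := fun n => (derivedSeries (S : Subgroup G) n).map (S : Subgroup G).subtype
    with hT
  have hPS : P ≤ S := by
    obtain ⟨S', hS'⟩ := (isPGroup_pCore (p := p) (G := G)).exists_le_sylow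
    obtain ⟨g, hg⟩ := MulAction.exists_smul_eq G S' S
    intro x hx
    rw [← hg]
    refine Subgroup.mem_map.mpr ⟨g⁻¹ * x * g, hS' ?_, by simp [mul_assoc]⟩
    simpa using (inferInstance : P.Normal).conj_mem x hx g⁻¹
  have hTd1 : T (d + 1) = ⊥ := by
    show Subgroup.map _ _ = ⊥
    rw [hd, Subgroup.map_bot]
  have hab : ∀ a ∈ T d, ∀ b ∈ T d, a * b * a⁻¹ * b⁻¹ = 1 := fun a ha b hb => by
    have h := commutator_mem_map (S : Subgroup G) d ha hb
    change _ ∈ T (d + 1) at h
    rwa [hTd1, Subgroup.mem_bot] at h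
  obtain ⟨V, hV1, hV2, hV3, π, f, hs, hπ, -, hinj, hc⟩ := exists_module hsol h1
  -- the operator attached to an element
  have hD : ∀ (g : G) (u : ↥P), (f (g : G ⧸ P) - 1) (π u) = π (coreConj g u * u⁻¹) := fun g u => by
    rw [LinearMap.sub_apply, Module.End.one_apply, hc, hπ, show π u⁻¹ = -π u by
      rw [eq_neg_iff_add_eq_zero, ← hπ, inv_mul_cancel, pi_one hπ], sub_eq_add_neg]
  have hstep : ∀ (n : ℕ) (g : G), g ∈ T n → ∀ u : ↥P, (u : G) ∈ S →
      ((coreConj g u * u⁻¹ : ↥P) : G) ∈ T n := fun n g hg u hu => by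
    show g * u * g⁻¹ * (u : G)⁻¹ ∈ T n
    have h := mul_mem hg (derivedSeries_normal_map (S : Subgroup G) n hu (inv_mem hg))
    simpa [mul_assoc] using h
  have hstep2 : ∀ (n : ℕ) (g : G), g ∈ T n → ∀ u : ↥P, (u : G) ∈ T n →
      ((coreConj g u * u⁻¹ : ↥P) : G) ∈ T (n + 1) := fun n g hg u hu =>
    commutator_mem_map (S : Subgroup G) n hg hu
  have hquad : ∀ a ∈ T d, ∀ b ∈ T d, (f (a : G ⧸ P) - 1) * (f (b : G ⧸ P) - 1) = 0 := by
    intro a ha b hb
    refine LinearMap.ext fun v => ?_
    obtain ⟨u, rfl⟩ := hs v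
    rw [Module.End.mul_apply, hD, hD, LinearMap.zero_apply]
    have h := hstep2 d a ha _ (hstep d b hb u (hPS u.2))
    change _ ∈ T (d + 1) at h
    rw [hTd1, Subgroup.mem_bot] at h
    rw [OneMemClass.coe_eq_one.mp h, pi_one hπ]
  rcases Nat.eq_zero_or_pos d with hd0 | hd0
  · -- abelian Sylow subgroups centralise the core
    subst hd0
    intro a ha
    refine centralizer_pCore_le hsol h1 (Subgroup.mem_centralizer_iff.mpr fun u hu => ?_)
    have huT : u ∈ T 0 := ⟨⟨u, hPS hu⟩, by rw [derivedSeries_zero]; trivial, rfl⟩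
    have h := hab u huT a ha
    rwa [mul_inv_eq_one, mul_inv_eq_iff_eq_mul] at h
  by_cases hp3 : p = 3
  · subst hp3
    obtain ⟨d', rfl⟩ := Nat.exists_eq_add_of_le hd0
    set π₀ := QuotientGroup.mk' P
    set B := (T (Nat.succ 0 + d' - 1)).map π₀ with hB
    have he : Nat.succ 0 + d' - 1 + 1 = Nat.succ 0 + d' := by omega
    have hBp : IsPGroup 3 B :=
      ((S.isPGroup'.to_subgroup _).map (S : Subgroup G).subtype).map π₀
    have hcomB : (commutator B).map B.subtype = (T (Nat.succ 0 + d')).map π₀ := by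
      rw [Subgroup.map_subtype_commutator, hB, ← Subgroup.map_commutator, hT]
      simp only
      rw [← Subgroup.map_commutator, ← derivedSeries_succ, he]
    have hlift : ∀ a ∈ commutator B, ∃ a' ∈ T (Nat.succ 0 + d'), (a' : G ⧸ P) = (a : G ⧸ P) := by
      intro a ha
      have h : (a : G ⧸ P) ∈ (T (Nat.succ 0 + d')).map π₀ := hcomB ▸ ⟨a, ha, rfl⟩
      obtain ⟨a', ha', he'⟩ := h
      exact ⟨a', ha', he'⟩
    have hbot := quadratic_commutator_trivial (isPSolvable_quotient hsol P)
      (pCore_quotient_eq_bot P rfl) f hinj B hBp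
      (fun a ha => by
        obtain ⟨a', ha', he'⟩ := hlift a ha
        rw [← he', pow_two]
        exact hquad a' ha' a' ha')
      (fun a ha x hx => by
        obtain ⟨a', ha', he'⟩ := hlift a ha
        obtain ⟨x', hx', hex⟩ := hx
        rw [← he', ← hex, pow_two]
        refine LinearMap.ext fun v => ?_
        obtain ⟨u, rfl⟩ := hs v
        show (f (a' : G ⧸ P) - 1) ((f (x' : G ⧸ P) - 1) ((f (x' : G ⧸ P) - 1) (π u))) = 0
        rw [hD, hD, hD]
        have h2 := hstep2 _ x' hx' _ (hstep _ x' hx' u (hPS u.2))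
        rw [he] at h2
        have h := hstep2 _ a' ha' _ h2
        change _ ∈ T (Nat.succ 0 + d' + 1) at h
        rw [hTd1, Subgroup.mem_bot] at h
        rw [OneMemClass.coe_eq_one.mp h, pi_one hπ])
      (fun a ha b hb => by
        obtain ⟨a', ha', hea⟩ := hlift a ha
        obtain ⟨b', hb', heb⟩ := hlift b hb
        refine Subtype.ext ?_
        show (a : G ⧸ P) * b = b * a
        rw [← hea, ← heb, ← QuotientGroup.mk_mul, ← QuotientGroup.mk_mul]
        have h := hab a' ha' b' hb'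
        rw [mul_inv_eq_one, mul_inv_eq_iff_eq_mul] at h
        rw [h])
    rw [hbot, Subgroup.map_bot, eq_comm, Subgroup.map_eq_bot_iff, QuotientGroup.ker_mk'] at hcomB
    exact hcomB
  · -- `p ≥ 5`
    intro a ha
    rw [← QuotientGroup.eq_one_iff]
    by_contra hne
    have hp5 : 5 ≤ p := by
      have h2 := hp.out.two_le
      have h4 : p ≠ 4 := fun e => by
        have := hp.out
        rw [e] at this
        exact absurd this (by norm_num)
      omega
    obtain ⟨j, hj⟩ := (S.isPGroup'.to_subgroup (derivedSeries (S : Subgroup G) d)).map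
      (S : Subgroup G).subtype ⟨a, ha⟩
    have hj' : (a : G ⧸ P) ^ p ^ j = 1 := by
      rw [← mk_pow, show a ^ p ^ j = 1 from congrArg Subtype.val hj, QuotientGroup.mk_one]
    obtain ⟨i, -, hi⟩ := (Nat.dvd_prime_pow hp.out).mp (orderOf_dvd_of_pow_eq_one hj')
    have hi0 : 1 ≤ i := by
      rcases Nat.eq_zero_or_pos i with rfl | h
      · exact absurd (orderOf_eq_one_iff.mp (by simpa using hi)) hne
      · exact h
    set b := a ^ p ^ (i - 1) with hb
    have hbo : orderOf (b : G ⧸ P) = p ^ (0 + 1) := by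
      rw [hb, mk_pow, orderOf_pow' _ (pow_ne_zero _ hp.out.ne_zero), hi,
        Nat.gcd_eq_right (pow_dvd_pow p (Nat.sub_le i 1)), Nat.pow_div (Nat.sub_le i 1) hp.out.pos]
      congr 1
      omega
    have hz := hquad b (pow_mem ha _) b (pow_mem ha _)
    rw [← pow_two] at hz
    rcases HallHigmanB.theoremB (isPSolvable_quotient hsol P) (pCore_quotient_eq_bot P rfl) f hinj
      _ 0 hbo with h | ⟨n₀, q, e, h1', h2', -, -, -, -, h7⟩
    · exact h (pow_eq_zero_of_le (by rw [zero_add, pow_one]; omega) hz)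
    · obtain rfl : n₀ = 1 := by omega
      exact h7 (pow_eq_zero_of_le (by rw [zero_add, Nat.sub_self, pow_zero, one_mul, pow_one]; omega) hz)

/-- `p`-length at most derived length, `p` odd. -/
theorem pLengthLE_of_derivedSeries (hp2 : p ≠ 2) (d : ℕ) : ∀ {G : Type u} [Group G] [Finite G],
    Cfsg.IsPSolvable p G → (∀ S : Sylow p G, derivedSeries (S : Subgroup G) d = ⊥) →
    Cfsg.PLengthLE p d G := by
  induction d with
  | zero =>
    intro G _ _ _ hd
    refine pLengthLE_zero_iff.mpr fun hdvd => ?_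
    obtain ⟨S⟩ : Nonempty (Sylow p G) := inferInstance
    have h := hd S
    rw [derivedSeries_zero] at h
    have hS : (S : Subgroup G) = ⊥ := by
      rw [Subgroup.eq_bot_iff_forall]
      intro x hx
      have hm : (⟨x, hx⟩ : (S : Subgroup G)) ∈ (⊥ : Subgroup (S : Subgroup G)) := h ▸ Subgroup.mem_top _
      exact congrArg Subtype.val (Subgroup.mem_bot.mp hm)
    exact S.ne_bot_of_dvd_card hdvd hS
  | succ d ih =>
    intro G _ _ hsol hd
    refine pLengthLE_of_quotient_pPrime (N := Cfsg.pPrimeCore p G) card_pPrimeCore_coprime ?_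
    set K := G ⧸ Cfsg.pPrimeCore p G
    have hK1 : Cfsg.pPrimeCore p K = ⊥ := pPrimeCore_quotient_eq_bot _ rfl
    have hKsol : Cfsg.IsPSolvable p K := isPSolvable_quotient hsol _
    refine pLengthLE_succ_of_quotient_pCore (ih (isPSolvable_quotient hKsol _) fun T => ?_)
    obtain ⟨S₁, rfl⟩ := Sylow.mapSurjective_surjective (QuotientGroup.mk'_surjective (Cfsg.pCore p K)) p T
    have hd1 : derivedSeries (S₁ : Subgroup K) (d + 1) = ⊥ := by
      obtain ⟨S₀, rfl⟩ :=
        Sylow.mapSurjective_surjective (QuotientGroup.mk'_surjective (Cfsg.pPrimeCore p G)) p S₁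
      have := map_derivedSeries_eq (MonoidHom.subgroupMap_surjective
        (QuotientGroup.mk' (Cfsg.pPrimeCore p G)) (S₀ : Subgroup G)) (d + 1)
      rw [hd S₀, Subgroup.map_bot] at this
      exact this.symm
    have hle := derivedSeries_le_pCore hp2 hKsol hK1 S₁ d hd1
    have := map_derivedSeries_eq (MonoidHom.subgroupMap_surjective
      (QuotientGroup.mk' (Cfsg.pCore p K)) (S₁ : Subgroup K)) d
    show derivedSeries ↥((S₁ : Subgroup K).map (QuotientGroup.mk' (Cfsg.pCore p K))) d = ⊥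
    rw [← this, Subgroup.map_eq_bot_iff]
    intro x hx
    rw [MonoidHom.mem_ker]
    refine Subtype.ext ?_
    exact (QuotientGroup.eq_one_iff (x : K)).mpr (hle ⟨x, hx, rfl⟩)

end Cfsg.Agent.Lib.PSolvable
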