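/-
A full Jordan block on the Frattini module gives a section `C_p ≀ C_p`.
-/
import Mathlib
import Cfsg.Agent.Lib.PSolvable.FrattiniModule
import Cfsg.Agent.Lib.Transfer.InvolvesS4

set_option autoImplicit false
set_option linter.unusedSectionVars false
set_option linter.style.haveILetI false

namespace Cfsg.Agent.Lib.PSolvable

open Module

universe u

variable {G : Type u} [Group G] [Finite G] {p : ℕ} [hp : Fact p.Prime]
  {V : Type*} [AddCommGroup V] [Module (ZMod p) V] {π : ↥(Cfsg.pCore p G) → V}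
  {f : G ⧸ Cfsg.pCore p G →* Module.End (ZMod p) V}

/-- The description of `C_p ≀ C_p`. -/
def IsWreathLike (p : ℕ) (W : Type u) [Group W] : Prop :=
  ∃ (B : Subgroup W) (t : W), B.Normal ∧ IsMulCommutative B ∧ (∀ b ∈ B, b ^ p = 1) ∧
    Nat.card B = p ^ p ∧ orderOf t = p ∧ t ∉ B ∧ Nat.card W = p ^ (p + 1) ∧
    Nat.card ↥(B ⊓ Subgroup.centralizer ({t} : Set W)) = p

theorem IsWreathLike.congr {W : Type u} [Group W] {W' : Type*} [Group W'] (e : W ≃* W')
    (h : IsWreathLike p W) :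
    ∃ (B : Subgroup W') (t : W'), B.Normal ∧ IsMulCommutative B ∧ (∀ b ∈ B, b ^ p = 1) ∧
      Nat.card B = p ^ p ∧ orderOf t = p ∧ t ∉ B ∧ Nat.card W' = p ^ (p + 1) ∧
      Nat.card ↥(B ⊓ Subgroup.centralizer ({t} : Set W')) = p := by
  obtain ⟨B, t, hn, hc, he, hB, ht, htB, hW, hC⟩ := h
  refine ⟨B.map e.toMonoidHom, e t, hn.map _ e.surjective, ⟨⟨fun a b => ?_⟩⟩, ?_, ?_, ?_, ?_, ?_, ?_⟩
  · obtain ⟨x, hx, hx'⟩ := a.2
    obtain ⟨y, hy, hy'⟩ := b.2
    refine Subtype.ext ?_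
    show (a : W') * b = b * a
    rw [← hx', ← hy', ← map_mul, ← map_mul]
    exact congrArg _ (congrArg Subtype.val (hc.is_comm.comm ⟨x, hx⟩ ⟨y, hy⟩))
  · rintro _ ⟨b, hb, rfl⟩
    rw [← map_pow, he b hb, map_one]
  · rw [Subgroup.card_map_of_injective e.injective, hB]
  · rw [MulEquiv.orderOf_eq, ht]
  · rintro ⟨b, hb, hbt⟩
    exact htB (e.injective hbt ▸ hb)
  · rw [← Nat.card_congr e.toEquiv, hW]
  · have : B.map e.toMonoidHom ⊓ Subgroup.centralizer ({e t} : Set W') =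
        (B ⊓ Subgroup.centralizer ({t} : Set W)).map e.toMonoidHom := by
      ext y
      constructor
      · rintro ⟨⟨b, hb, rfl⟩, hy⟩
        refine ⟨b, ⟨hb, Subgroup.mem_centralizer_singleton_iff.mpr (e.injective ?_)⟩, rfl⟩
        rw [map_mul, map_mul]
        exact Subgroup.mem_centralizer_singleton_iff.mp hy
      · rintro ⟨b, ⟨hb, hb'⟩, rfl⟩
        refine ⟨⟨b, hb, rfl⟩, Subgroup.mem_centralizer_singleton_iff.mpr ?_⟩
        show e b * e t = e t * e b
        rw [← map_mul, ← map_mul, Subgroup.mem_centralizer_singleton_iff.mp hb']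
    rw [this, Subgroup.card_map_of_injective e.injective, hC]

theorem exists_wreath_section (hπ : ∀ u v, π (u * v) = π u + π v) (hs : Function.Surjective π)
    (hc : ∀ (g : G) u, f (g : G ⧸ Cfsg.pCore p G) (π u) = π (coreConj g u)) (g : G)
    (hg : orderOf (g : G ⧸ Cfsg.pCore p G) = p)
    (hne : (f (g : G ⧸ Cfsg.pCore p G) - 1) ^ (p - 1) ≠ 0) :
    ∃ K : Subgroup G, IsPGroup p K ∧ ∃ (W : Type u) (_ : Group W) (_ : Finite W),
      IsWreathLike p W ∧ ∃ φ : K →* W, Function.Surjective φ := by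
  classical
  set D := f (g : G ⧸ (Cfsg.pCore p G)) - 1 with hD
  have hp1 : p - 1 + 1 = p := Nat.sub_add_cancel hp.out.one_lt.le
  have hDp : D ^ p = 0 := by
    have := HallHigmanB.sub_one_pow_char_pow (p := p) (f (g : G ⧸ (Cfsg.pCore p G))) 1
    rw [pow_one] at this
    rw [hD, this, ← map_pow, orderOf_dvd_iff_pow_eq_one.mp hg.dvd, map_one, sub_self]
  obtain ⟨v, hv⟩ : ∃ v, (D ^ (p - 1)) v ≠ 0 := by
    by_contra hcon
    push Not at hcon
    exact hne (LinearMap.ext hcon)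
  obtain ⟨φ, hφ⟩ := Module.Projective.exists_dual_ne_zero (ZMod p) hv
  let Φ : V →ₗ[ZMod p] (Fin p → ZMod p) := LinearMap.pi fun i => φ.comp (D ^ (i : ℕ))
  have hΦ : ∀ w (i : Fin p), Φ w i = φ ((D ^ (i : ℕ)) w) := fun w i => rfl
  have hDD : ∀ (i : ℕ) w, (D ^ i) (D w) = (D ^ (i + 1)) w := fun i w => by
    rw [pow_succ, Module.End.mul_apply]
  -- `Φ` is onto
  have hΦs : Function.Surjective Φ := by
    have h1 : ∀ j : ℕ, ∀ hj : j < p, Pi.single (⟨j, hj⟩ : Fin p) (1 : ZMod p) ∈ LinearMap.range Φ := by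
      intro j
      induction j using Nat.strongRecOn with
      | ind j ih =>
        intro hj
        have hw : Φ ((D ^ (p - 1 - j)) v) ∈ LinearMap.range Φ := LinearMap.mem_range_self _ _
        have hval : ∀ i : Fin p, Φ ((D ^ (p - 1 - j)) v) i = φ ((D ^ ((i : ℕ) + (p - 1 - j))) v) :=
          fun i => by rw [hΦ, pow_add, Module.End.mul_apply]
        set w := Φ ((D ^ (p - 1 - j)) v) with hwdef
        have hsum : w = ∑ i, w i • Pi.single i (1 : ZMod p) := pi_eq_sum_univ' w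
        have hrest : ∑ i ∈ Finset.univ.erase (⟨j, hj⟩ : Fin p), w i • Pi.single i (1 : ZMod p) ∈
            LinearMap.range Φ := by
          refine Submodule.sum_mem _ fun i hi => ?_
          rcases lt_trichotomy (i : ℕ) j with hlt | heq | hgt
          · exact Submodule.smul_mem _ _ (ih i hlt i.2)
          · exact absurd (Fin.ext heq) (Finset.ne_of_mem_erase hi)
          · rw [hval, pow_eq_zero_of_le (by omega) hDp]
            simp
        rw [hsum, ← Finset.add_sum_erase _ _ (Finset.mem_univ (⟨j, hj⟩ : Fin p))] at hw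
        have h2 := (Submodule.add_mem_iff_left _ hrest).mp hw
        have hne' : w ⟨j, hj⟩ ≠ 0 := by
          rw [hval, show j + (p - 1 - j) = p - 1 by omega]
          exact hφ
        exact (Submodule.smul_mem_iff _ hne').mp h2
    intro w
    rw [← LinearMap.mem_range, pi_eq_sum_univ' w]
    exact Submodule.sum_mem _ fun i _ => Submodule.smul_mem _ _ (h1 i i.2)
  have h0 : (0 : ℕ) < p := hp.out.pos
  -- the element `t` of the coset with `p`-th power in the kernel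
  have hgP : g ^ p ∈ (Cfsg.pCore p G) := by
    rw [← QuotientGroup.eq_one_iff]
    show (g : G ⧸ (Cfsg.pCore p G)) ^ p = 1
    exact orderOf_dvd_iff_pow_eq_one.mp hg.dvd
  have hfix : D (π ⟨g ^ p, hgP⟩) = 0 := by
    rw [hD, LinearMap.sub_apply, Module.End.one_apply, hc, sub_eq_zero]
    congr 1
    exact Subtype.ext (show g * g ^ p * g⁻¹ = g ^ p by group)
  obtain ⟨u, hu⟩ := hs ((-(φ (π ⟨g ^ p, hgP⟩)) * (φ ((D ^ (p - 1)) v))⁻¹) • v)
  set t := (u : G) * g with ht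
  have htg : (t : G ⧸ (Cfsg.pCore p G)) = g := by
    rw [ht, QuotientGroup.mk_mul, (QuotientGroup.eq_one_iff (u : G)).mpr u.2, one_mul]
  obtain ⟨w, hw, hw'⟩ := exists_mul_pow_prime_pow hπ hc u g 1
  rw [pow_one, ← hD] at hw'
  rw [pow_one] at hw
  have htP : t ^ p ∈ (Cfsg.pCore p G) := by rw [hw]; exact mul_mem w.2 hgP
  have htpow : Φ (π ⟨t ^ p, htP⟩) = 0 := by
    rw [show (⟨t ^ p, htP⟩ : ↥(Cfsg.pCore p G)) = w * ⟨g ^ p, hgP⟩ from Subtype.ext hw, hπ, hw', hu]
    funext i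
    rw [hΦ, map_add, map_smul, map_smul, map_add, map_smul]
    rcases Nat.eq_zero_or_pos (i : ℕ) with hi | hi
    · rw [hi, pow_zero, Module.End.one_apply, Module.End.one_apply, smul_eq_mul, mul_assoc,
        inv_mul_cancel₀ hφ, mul_one, neg_add_cancel]
      rfl
    · obtain ⟨i', hi'⟩ : ∃ i', (i : ℕ) = i' + 1 := ⟨(i : ℕ) - 1, by omega⟩
      rw [hi', ← Module.End.mul_apply, ← pow_add,
        pow_eq_zero_of_le (show p ≤ i' + 1 + (p - 1) by omega) hDp, ← hDD, hfix]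
      simp
  -- the kernel
  let ψ : ↥(Cfsg.pCore p G) →* Multiplicative (Fin p → ZMod p) :=
    { toFun := fun a => Multiplicative.ofAdd (Φ (π a))
      map_one' := by rw [pi_one hπ, map_zero]; rfl
      map_mul' := fun a b => by rw [hπ, map_add]; rfl }
  have hψs : Function.Surjective ψ := fun a => by
    obtain ⟨b, hb⟩ := hΦs (Multiplicative.toAdd a)
    obtain ⟨c, rfl⟩ := hs b
    exact ⟨c, by show Multiplicative.ofAdd (Φ (π c)) = a; rw [hb]; rfl⟩
  set R := ψ.ker.map (Cfsg.pCore p G).subtype with hR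
  have hmemR : ∀ x (hx : x ∈ (Cfsg.pCore p G)), x ∈ R ↔ Φ (π ⟨x, hx⟩) = 0 := fun x hx => by
    constructor
    · rintro ⟨⟨y, hy⟩, hyk, rfl⟩
      exact hyk
    · exact fun h => ⟨⟨x, hx⟩, h, rfl⟩
  have hshift : ∀ a : ↥(Cfsg.pCore p G), ∀ i : Fin p, Φ (π (coreConj t a)) i = φ ((D ^ (i : ℕ)) (π a)) +
      φ ((D ^ ((i : ℕ) + 1)) (π a)) := fun a i => by
    rw [← hc, htg, hΦ, ← map_add, ← hDD, ← map_add, hD, LinearMap.sub_apply,
      Module.End.one_apply, add_sub_cancel]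
  have htR : t ∈ Subgroup.normalizer (R : Set G) := by
    haveI : Finite (R : Set G) := Set.toFinite _
    refine Subgroup.mem_normalizer_fintype fun x hx => ?_
    have hxP : x ∈ (Cfsg.pCore p G) := Subgroup.map_subtype_le _ hx
    refine (hmemR _ (coreConj t ⟨x, hxP⟩).2).mpr (funext fun i => ?_)
    have hzero : ∀ j : ℕ, φ ((D ^ j) (π ⟨x, hxP⟩)) = 0 := fun j => by
      rcases Nat.lt_or_ge j p with hj | hj
      · exact congrFun ((hmemR _ hxP).mp hx) ⟨j, hj⟩
      · rw [pow_eq_zero_of_le hj hDp, LinearMap.zero_apply, map_zero]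
    show Φ (π (coreConj t ⟨x, hxP⟩)) i = 0
    rw [hshift, hzero, hzero, add_zero]
  have hPR : (Cfsg.pCore p G) ≤ Subgroup.normalizer (R : Set G) := by
    intro a ha
    haveI : Finite (R : Set G) := Set.toFinite _
    refine Subgroup.mem_normalizer_fintype ?_
    rintro _ ⟨y, hy, rfl⟩
    exact ⟨⟨a, ha⟩ * y * (⟨a, ha⟩ : ↥(Cfsg.pCore p G))⁻¹, ψ.normal_ker.conj_mem y hy _, rfl⟩
  set K := (Cfsg.pCore p G) ⊔ Subgroup.zpowers t with hK
  have hKR : K ≤ Subgroup.normalizer (R : Set G) := sup_le hPR (Subgroup.zpowers_le.mpr htR)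
  haveI hRn : (R.subgroupOf K).Normal := Subgroup.normal_subgroupOf_of_le_normalizer hKR
  have hPK : (Cfsg.pCore p G) ≤ K := le_sup_left
  have htK : t ∈ K := Subgroup.mem_sup_right (Subgroup.mem_zpowers t)
  have hKimg : K.map (QuotientGroup.mk' (Cfsg.pCore p G)) = Subgroup.zpowers (g : G ⧸ (Cfsg.pCore p G)) := by
    rw [hK, Subgroup.map_sup, QuotientGroup.map_mk'_self, bot_sup_eq, MonoidHom.map_zpowers,
      QuotientGroup.mk'_apply, htg]
  have hPKidx : (Cfsg.pCore p G).relIndex K = p := by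
    have := Subgroup.relIndex_ker (K := K) (QuotientGroup.mk' (Cfsg.pCore p G))
    rw [QuotientGroup.ker_mk', hKimg, Nat.card_zpowers, hg] at this
    exact this
  have hRP : R ≤ (Cfsg.pCore p G) := Subgroup.map_subtype_le _
  have hRPidx : R.relIndex (Cfsg.pCore p G) = p ^ p := by
    have h1 : R.subgroupOf (Cfsg.pCore p G) = ψ.ker :=
      Subgroup.comap_map_eq_self_of_injective (Cfsg.pCore p G).subtype_injective _
    rw [Subgroup.relIndex, h1, Subgroup.index_ker, MonoidHom.range_eq_top.mpr hψs, Subgroup.card_top]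
    show Nat.card (Fin p → ZMod p) = _
    rw [Nat.card_fun, Nat.card_zmod, Nat.card_fin]
  have hKp : IsPGroup p K := by
    obtain ⟨j, hj⟩ := IsPGroup.iff_card.mp (isPGroup_pCore (p := p) (G := G))
    refine IsPGroup.of_card (n := j + 1) ?_
    rw [← Subgroup.relIndex_bot_left, ← Subgroup.relIndex_mul_relIndex ⊥ (Cfsg.pCore p G) K bot_le hPK,
      Subgroup.relIndex_bot_left, hPKidx, pow_succ]
    exact congrArg (· * p) hj
  let m : K →* K ⧸ R.subgroupOf K := QuotientGroup.mk' _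
  set B := ((Cfsg.pCore p G).subgroupOf K).map m with hB
  have hm : ∀ a b : K, m a = m b ↔ (a : G)⁻¹ * b ∈ R := fun a b => QuotientGroup.eq
  have hPP : ∀ (a b : ↥(Cfsg.pCore p G)), m ⟨a, hPK a.2⟩ = m ⟨b, hPK b.2⟩ ↔ Φ (π a) = Φ (π b) := fun a b => by
    rw [hm, hmemR _ (mul_mem (inv_mem a.2) b.2)]
    show Φ (π (a⁻¹ * b)) = 0 ↔ _
    have h1 : π a⁻¹ = -π a := by
      rw [eq_neg_iff_add_eq_zero, ← hπ, inv_mul_cancel, pi_one hπ]
    rw [hπ, map_add, h1, map_neg, neg_add_eq_zero]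
  have hBrel : Nat.card B = p ^ p := by
    rw [hB, ← Subgroup.relIndex_ker, QuotientGroup.ker_mk', Subgroup.relIndex_subgroupOf hPK,
      hRPidx]
  have hWcard : Nat.card (K ⧸ R.subgroupOf K) = p ^ (p + 1) := by
    rw [← Subgroup.index_eq_card]
    show R.relIndex K = _
    rw [← Subgroup.relIndex_mul_relIndex R (Cfsg.pCore p G) K hRP hPK, hRPidx, hPKidx, pow_succ]
  have hcent : ∀ a : ↥(Cfsg.pCore p G), m ⟨a, hPK a.2⟩ * m ⟨t, htK⟩ = m ⟨t, htK⟩ * m ⟨a, hPK a.2⟩ ↔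
      ∀ i : Fin p, (i : ℕ) ≠ 0 → Φ (π a) i = 0 := fun a => by
    rw [eq_comm, ← mul_inv_eq_iff_eq_mul, ← map_inv, ← map_mul, ← map_mul]
    show m ⟨coreConj t a, hPK (coreConj t a).2⟩ = m ⟨a, hPK a.2⟩ ↔ _
    rw [hPP]
    constructor
    · intro h i hi
      have h1 := congrFun h ⟨(i : ℕ) - 1, by omega⟩
      rw [hshift, hΦ, add_eq_left] at h1
      rw [hΦ, show (i : ℕ) = (i : ℕ) - 1 + 1 by omega]
      exact h1
    · intro h
      funext i
      rw [hshift, hΦ, add_eq_left]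
      rcases Nat.lt_or_ge ((i : ℕ) + 1) p with hi | hi
      · exact h ⟨(i : ℕ) + 1, hi⟩ (Nat.succ_ne_zero _)
      · rw [pow_eq_zero_of_le hi hDp, LinearMap.zero_apply, map_zero]
  have htnP : t ∉ (Cfsg.pCore p G) := fun h => by
    rw [← QuotientGroup.eq_one_iff, htg] at h
    rw [h, orderOf_one] at hg
    exact hp.out.ne_one hg.symm
  have hBmem : ∀ b ∈ B, ∃ a : ↥(Cfsg.pCore p G), m ⟨a, hPK a.2⟩ = b := by
    rintro _ ⟨⟨a, _⟩, ha, rfl⟩
    exact ⟨⟨a, ha⟩, rfl⟩
  refine ⟨K, hKp, K ⧸ R.subgroupOf K, inferInstance, inferInstance,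
    ⟨B, m ⟨t, htK⟩, Subgroup.Normal.map inferInstance m (QuotientGroup.mk'_surjective _), ⟨⟨?_⟩⟩,
      ?_, hBrel, ?_, ?_, hWcard, ?_⟩, m, QuotientGroup.mk'_surjective _⟩
  · intro x y
    obtain ⟨a, ha⟩ := hBmem x x.2
    obtain ⟨b, hb⟩ := hBmem y y.2
    refine Subtype.ext ?_
    show (x : K ⧸ R.subgroupOf K) * y = y * x
    rw [← ha, ← hb, ← map_mul, ← map_mul]
    exact (hPP (a * b) (b * a)).mpr (by rw [hπ, hπ, add_comm])
  · intro x hx
    obtain ⟨a, rfl⟩ := hBmem x hx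
    rw [← map_pow, ← map_one m]
    refine (hPP (a ^ p) 1).mpr ?_
    rw [pi_pow hπ, pi_one hπ, ← Nat.cast_smul_eq_nsmul (ZMod p), ZMod.natCast_self, zero_smul]
  · refine orderOf_eq_prime ?_ fun h => htnP ?_
    · rw [← map_pow, ← map_one m, hm]
      show (t ^ p)⁻¹ * 1 ∈ R
      rw [mul_one]
      exact inv_mem ((hmemR _ htP).mpr htpow)
    · rw [← map_one m, hm] at h
      have h2 := hRP h
      rw [show ((⟨t, htK⟩ : K) : G)⁻¹ * ((1 : K) : G) = t⁻¹ from mul_one _] at h2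
      exact inv_mem_iff.mp h2
  · intro h
    obtain ⟨a, ha⟩ := hBmem _ h
    rw [hm] at ha
    exact htnP ((mul_mem_cancel_left (inv_mem a.2)).mp (hRP ha))
  · have hc0 : ∀ c : ZMod p, ∃ a : ↥(Cfsg.pCore p G), Φ (π a) = Pi.single (⟨0, h0⟩ : Fin p) c := fun c => by
      obtain ⟨x, hx⟩ := hΦs (Pi.single ⟨0, h0⟩ c)
      obtain ⟨a, rfl⟩ := hs x
      exact ⟨a, hx⟩
    choose sec hsec using hc0
    let F : ZMod p → ↥(B ⊓ Subgroup.centralizer ({m ⟨t, htK⟩} : Set (K ⧸ R.subgroupOf K))) :=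
      fun c => ⟨m ⟨sec c, hPK (sec c).2⟩, ⟨⟨sec c, hPK (sec c).2⟩, (sec c).2, rfl⟩,
        Subgroup.mem_centralizer_singleton_iff.mpr ((hcent _).mpr fun i hi => by
          rw [hsec, Pi.single_eq_of_ne (fun e => hi (congrArg Fin.val e))])⟩
    have hF : Function.Bijective F := by
      constructor
      · intro c c' h
        have h1 := (hPP _ _).mp (congrArg Subtype.val h)
        rw [hsec, hsec] at h1
        exact Pi.single_injective (M := fun _ : Fin p => ZMod p) _ h1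
      · rintro ⟨x, hx1, hx2⟩
        obtain ⟨a, rfl⟩ := hBmem x hx1
        refine ⟨Φ (π a) ⟨0, h0⟩, Subtype.ext ((hPP _ _).mpr ?_)⟩
        rw [hsec]
        funext i
        have h1 := (hcent a).mp (Subgroup.mem_centralizer_singleton_iff.mp hx2) i
        by_cases hi : (i : ℕ) = 0
        · rw [show i = ⟨0, h0⟩ from Fin.ext hi, Pi.single_eq_same]
        · rw [Pi.single_eq_of_ne (fun e => hi (congrArg Fin.val e)), h1 hi]
    rw [← Nat.card_congr (Equiv.ofBijective F hF), Nat.card_zmod]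

end Cfsg.Agent.Lib.PSolvable
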